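import Groth.Agent.Dcoh.DerComp2
import Groth.Agent.S0476
import Groth.Agent.S0484
import Groth.Prelude.Def_SiteCmp
import Groth.Prelude.Def_WeakSerre

/-!
# K-injective resolutions of modules on a ringed site and the functor `Rf_*`
-/

set_option autoImplicit false

universe u

open CategoryTheory CategoryTheory.Limits Opposite Pretriangulated

attribute [local instance] HasDerivedCategory.standard

namespace K578.Der

open Groth.Agent.Dcoh.DerAbs Groth.Agent.Dcoh.DerHo Groth.Agent.Dcoh.DerAdj
  Groth.Agent.Dcoh.DerComp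

variable {C : Type u} [SmallCategory C] {J : GrothendieckTopology C}
  {D : Type u} [SmallCategory D] {K : GrothendieckTopology D}

/-- Modules on a small ringed site form a Grothendieck abelian category. -/
theorem isGrothendieckAbelian (O : Sheaf J CommRingCat.{u}) :
    IsGrothendieckAbelian.{u} (ModSite.Mod O) :=
  Groth.Agent.S0484.result J (ModSite.ringSh O)

theorem enoughInjectives (O : Sheaf J CommRingCat.{u}) : EnoughInjectives (ModSite.Mod O) := by
  have := isGrothendieckAbelian O
  infer_instance

theorem hasInjectiveResolutions (O : Sheaf J CommRingCat.{u}) :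
    HasInjectiveResolutions (ModSite.Mod O) := by
  have := enoughInjectives O
  infer_instance

/-- Every complex of modules has a K-injective resolution. -/
theorem hasKInj (O : Sheaf J CommRingCat.{u}) : HasKInj (ModSite.Mod O) := by
  intro K
  have := isGrothendieckAbelian O
  obtain ⟨I, f, hI, hf, -⟩ := Groth.Agent.S0476.result K
  exact ⟨I, f, hI, hf⟩

variable {O_C : Sheaf J CommRingCat.{u}} {O_D : Sheaf K CommRingCat.{u}} (f : ModSite.RMor O_C O_D)

instance isTriangulated_pushKh : (SiteCmp.pushKh f).IsTriangulated := by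
  have h1 : (f.push.mapHomotopyCategory (ComplexShape.up ℤ)).IsTriangulated := inferInstance
  have h2 : (DerivedCategory.Qh (C := ModSite.Mod O_D)).IsTriangulated := inferInstance
  exact Functor.IsTriangulated.instComp _ _

/-- The unbounded `Rf_*` exists. -/
theorem hasRpushD : SiteCmp.HasRpushD f := hasRightDerivedFunctor (hasKInj O_C) _

variable [SiteCmp.HasRpushD f]

/-- The unit of `Rf_*`. -/
noncomputable def rpushUnit : SiteCmp.pushKh f ⟶ DerivedCategory.Qh ⋙ SiteCmp.RpushD f :=
  (SiteCmp.pushKh f).totalRightDerivedUnit DerivedCategory.Qh (qis (ModSite.Mod O_C))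

instance : (SiteCmp.RpushD f).IsRightDerivedFunctor (rpushUnit f) (qis (ModSite.Mod O_C)) := by
  dsimp [rpushUnit]
  infer_instance

/-- The unit of `Rf_*` on complexes: `Q (f_* K) ⟶ Rf_* (Q K)`. -/
noncomputable def rpushUnitQ :
    f.push.mapHomologicalComplex (ComplexShape.up ℤ) ⋙ DerivedCategory.Q ⟶
      DerivedCategory.Q ⋙ SiteCmp.RpushD f :=
  unitQ f.push (SiteCmp.RpushD f) (rpushUnit f)

lemma isIso_rpushUnit_app (I : CochainComplex (ModSite.Mod O_C) ℤ) (hI : I.IsKInjective) :
    IsIso ((rpushUnit f).app ((HomotopyCategory.quotient _ _).obj I)) :=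
  isIso_unit_app' (hasKInj O_C) (SiteCmp.RpushD f) (rpushUnit f) I hI

lemma isIso_rpushUnitQ_app (I : CochainComplex (ModSite.Mod O_C) ℤ) (hI : I.IsKInjective) :
    IsIso ((rpushUnitQ f).app I) :=
  isIso_unitQ_app _ _ _ _ (isIso_rpushUnit_app f I hI)

/-- `Rf_*` is computed by `f_*` on K-injective complexes. -/
noncomputable def rpushIso (I : CochainComplex (ModSite.Mod O_C) ℤ) (hI : I.IsKInjective) :
    (SiteCmp.RpushD f).obj (DerivedCategory.Q.obj I) ≅
      DerivedCategory.Q.obj ((f.push.mapHomologicalComplex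
        (ComplexShape.up ℤ)).obj I) :=
  haveI := isIso_rpushUnitQ_app f I hI
  (asIso ((rpushUnitQ f).app I)).symm

/-- `Rf_*` commutes with shifts. -/
@[instance_reducible]
noncomputable def rpushCommShift : (SiteCmp.RpushD f).CommShift ℤ :=
  Groth.Agent.Dcoh.DerHo.commShift (hasKInj O_C) (SiteCmp.RpushD f) (rpushUnit f)

lemma rpushUnit_commShift :
    letI := rpushCommShift f
    NatTrans.CommShift (rpushUnit f) ℤ :=
  Groth.Agent.Dcoh.DerHo.natTrans_commShift (hasKInj O_C) (SiteCmp.RpushD f) (rpushUnit f)

/-- `Rf_*` is a triangulated functor. -/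
lemma rpush_isTriangulated :
    letI := rpushCommShift f
    (SiteCmp.RpushD f).IsTriangulated :=
  Groth.Agent.Dcoh.DerHo.isTriangulated (hasKInj O_C) (SiteCmp.RpushD f) (rpushUnit f)

variable [PreservesFiniteLimits f.pull]

instance : (SiteCmp.pullD f).IsLeftDerivedFunctor
    f.pull.mapDerivedCategoryFactorsh.hom (qis (ModSite.Mod O_D)) :=
  isLeftDerivedFunctor_mapDerivedCategory _

/-- `f^* ⊣ Rf_*` on derived categories, for a flat morphism of ringed sites. -/
noncomputable def adjD : SiteCmp.pullD f ⊣ SiteCmp.RpushD f :=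
  derivedAdj f.adj (hasKInj O_C) (leftDataExact _)
    (SiteCmp.pullD f) f.pull.mapDerivedCategoryFactorsh.hom
    (SiteCmp.RpushD f) (rpushUnit f)

end K578.Der
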