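import Groth.Agent.SiteCmp.K578.ModTest
import Groth.Prelude.Def_ModSite

/-!
# `Ext^n(PM_U, M) = H^n(U, M)` for sheaves of modules

and reformulations of `H^n(U, M) = 0`.
-/

set_option autoImplicit false
universe w w' u

open CategoryTheory CategoryTheory.Limits Opposite Abelian

namespace K578.ModExtPM

open Groth.Agent Groth.Agent.CohtopB K578.ModTest

variable {C : Type u} [SmallCategory C] {J : GrothendieckTopology C} (R : Sheaf J RingCat.{u})

/-- The morphism `ℤ_U ⟶ PM_U` of abelian sheaves. -/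
noncomputable def c (U : C) : CohCx.freeSheaf J U ⟶ (SheafOfModules.toSheaf R).obj ((PM R).obj U) :=
  FreeSheafHom.homMk (gen R U)

lemma c_comp {U : C} {M : SheafOfModules.{u} R} (f : (PM R).obj U ⟶ M) :
    FreeSheafHom.homEquivSections U _ (c R U ≫ (SheafOfModules.toSheaf R).map f) = homEq R U M f := by
  change ((SheafOfModules.toSheaf R).map f).hom.app (op U)
    (((c R U).hom.app (op U)).hom (FreeSheafHom.gen J U)) = _
  rw [c, FreeSheafHom.homMk_app_gen, homEq_apply]
  rfl

lemma bijective (U : C) (M : SheafOfModules.{u} R) :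
    Function.Bijective (fun (f : (PM R).obj U ⟶ M) => c R U ≫ (SheafOfModules.toSheaf R).map f) := by
  have h : (FreeSheafHom.homEquivSections U ((SheafOfModules.toSheaf R).obj M)) ∘
      (fun (f : (PM R).obj U ⟶ M) => c R U ≫ (SheafOfModules.toSheaf R).map f) = homEq R U M :=
    funext fun f => c_comp R f
  refine ((FreeSheafHom.homEquivSections U ((SheafOfModules.toSheaf R).obj M)).bijective.of_comp_iff' _).1 ?_
  rw [h]
  exact (homEq R U M).bijective

section Ext

variable [HasExt.{w} (SheafOfModules.{u} R)] [HasExt.{w'} (Sheaf J AddCommGrpCat.{u})]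

omit [HasExt.{w} (SheafOfModules.{u} R)] in
lemma subsingleton_ext_free (I : SheafOfModules.{u} R) [Injective I] (U : C) (n : ℕ) :
    Subsingleton (Ext (CohCx.freeSheaf J U) ((SheafOfModules.toSheaf R).obj I) (n + 1)) :=
  subsingleton_of_forall_eq 0 (fun x => CohtopA.ModExt.ext_toSheaf_eq_zero I n (CohtopA.TFree.tf_free J (yoneda.obj U)) x)

/-- `Ext^n(PM_U, M) ≃+ Ext^n(ℤ_U, M_ab)`. -/
noncomputable def extEquiv (U : C) (M : SheafOfModules.{u} R) (n : ℕ) :
    Ext ((PM R).obj U) M n ≃+ Ext (CohCx.freeSheaf J U) ((SheafOfModules.toSheaf R).obj M) n :=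
  have := CohtopA.ModExt.toSheaf_preservesFiniteColimits R
  have := S0484.result J R
  CohtopA.ExtAdj.extOfHomEquiv (SheafOfModules.toSheaf R) (c R U) (bijective R U)
    (fun I _ n => subsingleton_ext_free R I U n) M n

end Ext

/-- `H^n(U, M) = 0` iff `Ext^n(PM_U, M) = 0`. -/
theorem subsingleton_ext_iff (O : Sheaf J CommRingCat.{u}) [HasExt.{w} (ModSite.Mod O)]
    (M : ModSite.Mod O) (n : ℕ) (U : C) :
    Subsingleton (Ext ((PM (ModSite.ringSh O)).obj U) M n) ↔ Subsingleton (ModSite.HU O M n U) :=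
  (extEquiv.{w, u} (ModSite.ringSh O) U M n).toEquiv.subsingleton_congr

end K578.ModExtPM
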