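import Groth.Agent.SiteCmp.K578.LocComp
import Groth.Agent.SiteCmp.K578.ModExtPM
import Groth.Agent.SiteCmp.K578.Der

/-!
# The local comparison data for the direct image of modules along a morphism of ringed sites
-/

set_option autoImplicit false
universe u

open CategoryTheory CategoryTheory.Limits Opposite DerivedCategory

attribute [local instance] HasDerivedCategory.standard

namespace K578.PushComp

open K578.ModTest K578.LComp K578.Der

variable {C : Type u} [SmallCategory C] {J : GrothendieckTopology C} {O_C : Sheaf J CommRingCat.{u}}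
    {D : Type u} [SmallCategory D] {K : GrothendieckTopology D} {O_D : Sheaf K CommRingCat.{u}}
    (f : ModSite.RMor O_C O_D)

/-- The free module on an object of a ringed site. -/
noncomputable abbrev PO {C : Type u} [SmallCategory C] {J : GrothendieckTopology C}
    (O : Sheaf J CommRingCat.{u}) : C ⥤ ModSite.Mod O := PM (ModSite.ringSh O)

/-- Sections of a direct image. -/
def pushSec (V : D) (M : ModSite.Mod O_C) (s : M.val.obj (op (f.fn.obj V))) : (f.push.obj M).val.obj (op V) := s

/-- The universal map `P(V) ⟶ f_* P(fn V)`. -/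
noncomputable def uV (V : D) : (PO O_D).obj V ⟶ f.push.obj ((PO O_C).obj (f.fn.obj V)) :=
  (homEq (ModSite.ringSh O_D) V _).symm (pushSec f V _ (gen (ModSite.ringSh O_C) (f.fn.obj V)))

lemma homEq_uV_comp (V : D) (M : ModSite.Mod O_C) (z : (PO O_C).obj (f.fn.obj V) ⟶ M) :
    homEq (ModSite.ringSh O_D) V _ (uV f V ≫ f.push.map z) =
      pushSec f V _ (homEq (ModSite.ringSh O_C) (f.fn.obj V) _ z) := by
  rw [homEq_comp, uV, Equiv.apply_symm_apply, homEq_apply]
  rfl

lemma uV_bijective (V : D) (M : ModSite.Mod O_C) :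
    Function.Bijective (fun z : (PO O_C).obj (f.fn.obj V) ⟶ M => uV f V ≫ f.push.map z) := by
  refine ((homEq (ModSite.ringSh O_D) V _).bijective.of_comp_iff' _).1 ?_
  have : (homEq (ModSite.ringSh O_D) V (f.push.obj M)) ∘
      (fun z : (PO O_C).obj (f.fn.obj V) ⟶ M => uV f V ≫ f.push.map z) =
      fun z => pushSec f V _ (homEq (ModSite.ringSh O_C) (f.fn.obj V) _ z) :=
    funext fun z => homEq_uV_comp f V M z
  rw [this]
  exact (homEq (ModSite.ringSh O_C) (f.fn.obj V) M).bijective

lemma uV_nat {V W : D} (g : W ⟶ V) :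
    (PO O_D).map g ≫ uV f V = uV f W ≫ f.push.map ((PO O_C).map (f.fn.map g)) := by
  apply (homEq (ModSite.ringSh O_D) W _).injective
  rw [homEq_uV_comp, homEq_map, uV, Equiv.apply_symm_apply]
  have h := homEq_map (f.fn.map g) (𝟙 ((PO O_C).obj (f.fn.obj V)))
  rw [Category.comp_id] at h
  rw [h]
  rfl

variable [SiteCmp.HasRpushD f]

/-- The local comparison data for `f_*`. -/
noncomputable def comp : LocComp K (PO O_C) (PO O_D) f.fn (SiteCmp.RpushD f) :=
  LComp.mk' (rpushUnitQ f) (uV f) (testSystem _) (hasKInj O_C) (isIso_rpushUnitQ_app f) (uV_nat f)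
    (uV_bijective f)

end K578.PushComp
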