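import Mathlib.CategoryTheory.Triangulated.Adjunction
import Mathlib.CategoryTheory.Triangulated.TStructure.TruncLTGE
import Groth.Agent.LoccohB.Devissage
import Groth.Agent.Dcoh.MapDer

/-!
# Dévissage of units and counits of derived adjunctions
-/

set_option autoImplicit false

universe w w' v v' u u'

open CategoryTheory CategoryTheory.Limits Pretriangulated Triangulated DerivedCategory

namespace K578.AdjDev

section NatTrans

variable {C D : Type*} [Category* C] [Category* D] [HasZeroObject C] [HasZeroObject D]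
  [Preadditive C] [Preadditive D] [HasShift C ℤ] [HasShift D ℤ]
  [∀ (n : ℤ), (shiftFunctor C n).Additive] [∀ (n : ℤ), (shiftFunctor D n).Additive]
  [Pretriangulated C] [Pretriangulated D]

/-- The objects on which a natural transformation is an isomorphism. -/
def isoProp {F G : C ⥤ D} (τ : F ⟶ G) : ObjectProperty C := fun X => IsIso (τ.app X)

instance {F G : C ⥤ D} (τ : F ⟶ G) : (isoProp τ).IsClosedUnderIsomorphisms where
  of_iso e h := (NatTrans.isIso_app_iff_of_iso τ e).1 h

omit [HasZeroObject C] [HasZeroObject D] [∀ (n : ℤ), (shiftFunctor C n).Additive]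
  [∀ (n : ℤ), (shiftFunctor D n).Additive] [Pretriangulated C] [Pretriangulated D] in
lemma isoProp_shift {F G : C ⥤ D} (τ : F ⟶ G) [F.CommShift ℤ] [G.CommShift ℤ]
    [NatTrans.CommShift τ ℤ] (X : C) (n : ℤ) (h : isoProp τ X) : isoProp τ (X⟦n⟧) := by
  have h' : IsIso (τ.app X) := h
  have h1 := NatTrans.shift_app τ n X
  have h2 : τ.app (X⟦n⟧) = (F.commShiftIso n).hom.app X ≫ (τ.app X)⟦n⟧' ≫
      (G.commShiftIso n).inv.app X := by
    rw [h1]
    simp
  change IsIso _
  rw [h2]
  infer_instance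

lemma isoProp_ext₂ {F G : C ⥤ D} (τ : F ⟶ G) [F.CommShift ℤ] [G.CommShift ℤ]
    [NatTrans.CommShift τ ℤ] [F.IsTriangulated] [G.IsTriangulated] (T : Triangle C)
    (hT : T ∈ distTriang C) (h₁ : isoProp τ T.obj₁) (h₃ : isoProp τ T.obj₃) :
    isoProp τ T.obj₂ := by
  have h₁' : IsIso (τ.app T.obj₁) := h₁
  have h₃' : IsIso (τ.app T.obj₃) := h₃
  let φ : F.mapTriangle.obj T ⟶ G.mapTriangle.obj T :=
    { hom₁ := τ.app T.obj₁
      hom₂ := τ.app T.obj₂
      hom₃ := τ.app T.obj₃
      comm₁ := τ.naturality T.mor₁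
      comm₂ := τ.naturality T.mor₂
      comm₃ := by
        change (F.map T.mor₃ ≫ (F.commShiftIso (1 : ℤ)).hom.app T.obj₁) ≫ (τ.app T.obj₁)⟦(1 : ℤ)⟧' =
          τ.app T.obj₃ ≫ G.map T.mor₃ ≫ (G.commShiftIso (1 : ℤ)).hom.app T.obj₁
        rw [Category.assoc, NatTrans.shift_app_comm τ (1 : ℤ) T.obj₁, ← Category.assoc,
          ← Category.assoc, τ.naturality T.mor₃] }
  exact isIso₂_of_isIso₁₃ φ (F.map_distinguished _ hT) (G.map_distinguished _ hT) h₁' h₃'

end NatTrans

section Derived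

variable {A : Type u} [Category.{v} A] [Abelian A] [HasDerivedCategory.{w} A]
  {B : Type u'} [Category.{v'} B] [Abelian B] [HasDerivedCategory.{w'} B]

/-- `H^i(Φ(X₁)) ≅ H^i(Φ(X₂))` if `H^i(Φ(X₃)) = 0 = H^{i-1}(Φ(X₃))`. -/
lemma isIso_homology_map_mor₁ (Φ : DerivedCategory A ⥤ DerivedCategory B) [Φ.CommShift ℤ]
    [Φ.IsTriangulated] (T : Triangle (DerivedCategory A)) (hT : T ∈ distTriang _) (i : ℤ)
    (h : IsZero ((homologyFunctor B i).obj (Φ.obj T.obj₃)))
    (h' : IsZero ((homologyFunctor B (i - 1)).obj (Φ.obj T.obj₃))) :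
    IsIso ((homologyFunctor B i).map (Φ.map T.mor₁)) := by
  have hT' := Φ.map_distinguished T hT
  have he : Epi ((homologyFunctor B i).map (Φ.map T.mor₁)) :=
    (HomologySequence.epi_homologyMap_mor₁_iff _ hT' i).2 (h.eq_of_tgt _ _)
  have hm : Mono ((homologyFunctor B i).map (Φ.map T.mor₁)) :=
    (HomologySequence.mono_homologyMap_mor₁_iff _ hT' (i - 1) i (by lia)).2 (h'.eq_of_src _ _)
  exact isIso_of_mono_of_epi _

/-- Same for the second morphism. -/
lemma isIso_homology_map_mor₂ (Φ : DerivedCategory A ⥤ DerivedCategory B) [Φ.CommShift ℤ]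
    [Φ.IsTriangulated] (T : Triangle (DerivedCategory A)) (hT : T ∈ distTriang _) (i : ℤ)
    (h : IsZero ((homologyFunctor B i).obj (Φ.obj T.obj₁)))
    (h' : IsZero ((homologyFunctor B (i + 1)).obj (Φ.obj T.obj₁))) :
    IsIso ((homologyFunctor B i).map (Φ.map T.mor₂)) := by
  have hT' := Φ.map_distinguished T hT
  have he : Epi ((homologyFunctor B i).map (Φ.map T.mor₂)) :=
    (HomologySequence.epi_homologyMap_mor₂_iff _ hT' i (i + 1) rfl).2 (h'.eq_of_tgt _ _)
  have hm : Mono ((homologyFunctor B i).map (Φ.map T.mor₂)) :=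
    (HomologySequence.mono_homologyMap_mor₂_iff _ hT' i).2 (h.eq_of_src _ _)
  exact isIso_of_mono_of_epi _

/-- Left t-exactness. -/
def LTE (Φ : DerivedCategory A ⥤ DerivedCategory B) : Prop :=
  ∀ (X : DerivedCategory A) (n : ℤ), X.IsGE n → (Φ.obj X).IsGE n

lemma isIso_homology_app_of_truncation {Φ Ψ : DerivedCategory A ⥤ DerivedCategory B}
    [Φ.CommShift ℤ] [Ψ.CommShift ℤ] [Φ.IsTriangulated] [Ψ.IsTriangulated]
    (hΦ : LTE Φ) (hΨ : LTE Ψ) (τ : Φ ⟶ Ψ) (T : Triangle (DerivedCategory A))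
    (hT : T ∈ distTriang _) (i n : ℤ) (hi : i < n) (h₃ : T.obj₃.IsGE n)
    (h₁ : IsIso (τ.app T.obj₁)) :
    IsIso ((homologyFunctor B i).map (τ.app T.obj₂)) := by
  have a₁ := isIso_homology_map_mor₁ Φ T hT i
    (have := hΦ _ n h₃; isZero_of_isGE _ n i hi) (have := hΦ _ n h₃; isZero_of_isGE _ n (i - 1) (by lia))
  have a₂ := isIso_homology_map_mor₁ Ψ T hT i
    (have := hΨ _ n h₃; isZero_of_isGE _ n i hi) (have := hΨ _ n h₃; isZero_of_isGE _ n (i - 1) (by lia))
  have h := congr_arg (homologyFunctor B i).map (τ.naturality T.mor₁)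
  rw [Functor.map_comp, Functor.map_comp] at h
  have h2 : IsIso ((homologyFunctor B i).map (Φ.map T.mor₁) ≫
      (homologyFunctor B i).map (τ.app T.obj₂)) := by
    rw [h]; infer_instance
  exact IsIso.of_isIso_comp_left ((homologyFunctor B i).map (Φ.map T.mor₁)) _

lemma isoProp_of_isZero {Φ Ψ : DerivedCategory A ⥤ DerivedCategory B} [Φ.PreservesZeroMorphisms]
    [Ψ.PreservesZeroMorphisms] (τ : Φ ⟶ Ψ) (Z : DerivedCategory A) (hZ : IsZero Z) :
    isoProp τ Z :=
  ⟨0, (Φ.map_isZero hZ).eq_of_src _ _, (Ψ.map_isZero hZ).eq_of_src _ _⟩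

/-- A natural transformation between triangulated functors which is an isomorphism on an object
placed in degree `0` is an isomorphism on this object placed in degree `q`. -/
lemma isoProp_single {Φ Ψ : DerivedCategory A ⥤ DerivedCategory B}
    [Φ.CommShift ℤ] [Ψ.CommShift ℤ] (τ : Φ ⟶ Ψ) [NatTrans.CommShift τ ℤ] (M : A) (q : ℤ)
    (h : IsIso (τ.app ((singleFunctor A 0).obj M))) : isoProp τ ((singleFunctor A q).obj M) := by
  have h1 := isoProp_shift τ _ (-q) h
  exact (isoProp τ).prop_of_iso (((singleFunctors A).shiftIso (-q) q 0 (by lia)).app M) h1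

section

variable {Φ Ψ : DerivedCategory A ⥤ DerivedCategory B}
    [Φ.CommShift ℤ] [Ψ.CommShift ℤ] [Φ.IsTriangulated] [Ψ.IsTriangulated]
    (τ : Φ ⟶ Ψ) [NatTrans.CommShift τ ℤ]

/-- Dévissage, bounded case. -/
theorem isIso_app_of_bounded (X : DerivedCategory A) (a b : ℤ)
    [X.IsGE a] [X.IsLE b]
    (h : ∀ q : ℤ, IsIso (τ.app ((singleFunctor A 0).obj ((homologyFunctor A q).obj X)))) :
    IsIso (τ.app X) :=
  Groth.Agent.LoccohB.Devissage.devissage (isoProp τ) (isoProp_of_isZero τ)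
    (fun T hT h₁ h₃ => isoProp_ext₂ τ T hT h₁ h₃) X a b
    (fun i => isoProp_single τ _ i (h i))

/-- Dévissage, bounded below case. -/
theorem isIso_app_of_isGE (hΦ : LTE Φ) (hΨ : LTE Ψ) (X : DerivedCategory A) (a : ℤ)
    [hX : X.IsGE a]
    (h : ∀ q : ℤ, IsIso (τ.app ((singleFunctor A 0).obj ((homologyFunctor A q).obj X)))) :
    IsIso (τ.app X) := by
  rw [DerivedCategory.isIso_iff]
  intro i
  obtain ⟨T, hT, rfl, h1, h3, hi1, hi3⟩ :=
    Groth.Agent.LoccohB.Devissage.exists_trunc X i (i + 1) rfl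
  refine isIso_homology_app_of_truncation hΦ hΨ τ T hT i (i + 1) (by lia) h3 ?_
  have hGE : T.obj₁.IsGE a := by
    rw [isGE_iff]
    intro j hj
    by_cases hj' : j ≤ i
    · have := hi1 j hj'
      exact (isZero_of_isGE _ a j hj).of_iso (asIso ((homologyFunctor A j).map T.mor₁))
    · exact isZero_of_isLE _ i j (by lia)
  refine isIso_app_of_bounded τ T.obj₁ a i (fun q => ?_)
  by_cases hq : q ≤ i
  · have := hi1 q hq
    exact (isoProp τ).prop_of_iso ((singleFunctor A 0).mapIso
      (asIso ((homologyFunctor A q).map T.mor₁)).symm) (h q)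
  · exact isoProp_of_isZero τ _ ((singleFunctor A 0).map_isZero (isZero_of_isLE _ i q (by lia)))

end

/-! ### Adjunctions with a t-exact left adjoint -/

section Adj

variable {L : DerivedCategory B ⥤ DerivedCategory A} {G : DerivedCategory A ⥤ DerivedCategory B}
  (adj : L ⊣ G)

include adj in
/-- The right adjoint of a right t-exact functor is left t-exact. -/
lemma lte_rightAdjoint [L.Additive]
    (hL : ∀ (Y : DerivedCategory B) (n : ℤ), Y.IsLE n → (L.obj Y).IsLE n) :
    LTE G := by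
  intro X n hX
  refine ⟨?_⟩
  rw [TStructure.t.ge_iff_isGE, TStructure.t.isGE_iff_orthogonal (n - 1) n (by lia)]
  intro Y f hY
  have hY' : (L.obj Y).IsLE (n - 1) := hL Y (n - 1) ⟨hY.le⟩
  have h1 : (adj.homEquiv Y X).symm f = 0 :=
    TStructure.t.zero _ (n - 1) n (by lia)
  have h2 : f = (adj.homEquiv Y X) 0 := by rw [← h1, Equiv.apply_symm_apply]
  have := adj.right_adjoint_additive
  rw [h2, Adjunction.homEquiv_unit, G.map_zero, comp_zero]

variable [L.CommShift ℤ] [L.IsTriangulated]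
  (hLE : ∀ (Y : DerivedCategory B) (n : ℤ), Y.IsLE n → (L.obj Y).IsLE n)
  (hGE : ∀ (Y : DerivedCategory B) (n : ℤ), Y.IsGE n → (L.obj Y).IsGE n)

include hLE hGE

/-- The counit of an adjunction with t-exact triangulated left adjoint is an isomorphism on a
bounded below `X` as soon as it is an isomorphism on all `H^q(X)[0]`. -/
theorem isIso_counit_app (X : DerivedCategory A) (a : ℤ) (hX : X.IsGE a)
    (h : ∀ q : ℤ, IsIso (adj.counit.app ((singleFunctor A 0).obj ((homologyFunctor A q).obj X)))) :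
    IsIso (adj.counit.app X) := by
  letI := adj.rightAdjointCommShift ℤ
  haveI := adj.commShift_of_leftAdjoint ℤ
  haveI := adj.isTriangulated_rightAdjoint
  have hG := lte_rightAdjoint adj hLE
  exact isIso_app_of_isGE adj.counit (fun X n hX => hGE _ n (hG X n hX)) (fun X n hX => hX) X a h

/-- The unit of an adjunction with t-exact triangulated left adjoint is an isomorphism on a
bounded below `Y` as soon as it is an isomorphism on all `H^q(Y)[0]`. -/
theorem isIso_unit_app (Y : DerivedCategory B) (a : ℤ) (hY : Y.IsGE a)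
    (h : ∀ q : ℤ, IsIso (adj.unit.app ((singleFunctor B 0).obj ((homologyFunctor B q).obj Y)))) :
    IsIso (adj.unit.app Y) := by
  letI := adj.rightAdjointCommShift ℤ
  haveI := adj.commShift_of_leftAdjoint ℤ
  haveI := adj.isTriangulated_rightAdjoint
  have hG := lte_rightAdjoint adj hLE
  exact isIso_app_of_isGE adj.unit (fun X n hX => hX) (fun X n hX => hG _ n (hGE X n hX)) Y a h

end Adj

/-! ### The functor induced by an exact functor -/

section Exact

variable (F : B ⥤ A) [F.Additive] [PreservesFiniteLimits F] [PreservesFiniteColimits F]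
  {G : DerivedCategory A ⥤ DerivedCategory B} (adj : F.mapDerivedCategory ⊣ G)

include adj in
lemma lte_rightAdjoint_mapDer : LTE G :=
  lte_rightAdjoint adj (fun Y n _ => Groth.Agent.Dcoh.MapDer.isLE_map F n Y)

theorem isIso_counit_mapDer (X : DerivedCategory A) (a : ℤ) (hX : X.IsGE a)
    (h : ∀ q : ℤ, IsIso (adj.counit.app ((singleFunctor A 0).obj ((homologyFunctor A q).obj X)))) :
    IsIso (adj.counit.app X) :=
  isIso_counit_app adj (fun Y n _ => Groth.Agent.Dcoh.MapDer.isLE_map F n Y)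
    (fun Y n _ => Groth.Agent.Dcoh.MapDer.isGE_map F n Y) X a hX h

theorem isIso_unit_mapDer (Y : DerivedCategory B) (a : ℤ) (hY : Y.IsGE a)
    (h : ∀ q : ℤ, IsIso (adj.unit.app ((singleFunctor B 0).obj ((homologyFunctor B q).obj Y)))) :
    IsIso (adj.unit.app Y) :=
  isIso_unit_app adj (fun Y n _ => Groth.Agent.Dcoh.MapDer.isLE_map F n Y)
    (fun Y n _ => Groth.Agent.Dcoh.MapDer.isGE_map F n Y) Y a hY h

end Exact

end Derived

end K578.AdjDev
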