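import Groth.Agent.SiteCmp.K578.Der
import Groth.Agent.SiteCmp.K578.AdjDev
import Groth.Agent.Etrest.RDer3

/-!
# The cohomology of `Rf_*` of a single module; left t-exactness of `Rf_*`
-/

set_option autoImplicit false
universe u

open CategoryTheory CategoryTheory.Limits Opposite DerivedCategory

attribute [local instance] HasDerivedCategory.standard

namespace K578.RpushSingle

open Groth.Agent.Etrest.RDer3

variable {C : Type u} [SmallCategory C] {J : GrothendieckTopology C} {O_C : Sheaf J CommRingCat.{u}}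
    {D : Type u} [SmallCategory D] {K : GrothendieckTopology D} {O_D : Sheaf K CommRingCat.{u}}
    (f : ModSite.RMor O_C O_D) [SiteCmp.HasRpushD f]

lemma hasKInj' (O : Sheaf J CommRingCat.{u}) : HasKInj (ModSite.Mod O) := ⟨K578.Der.hasKInj O⟩

/-- `Rf_*` as `TR f_*`. -/
noncomputable def rpushTR : haveI := hasKInj' O_C; SiteCmp.RpushD f ≅ TR f.push :=
  haveI := hasKInj' O_C
  TRIso f.push

/-- `Rf_*` is left t-exact. -/
theorem lte : K578.AdjDev.LTE (SiteCmp.RpushD f) := by
  intro X n hX
  have := hasKInj' O_C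
  have := K578.Der.enoughInjectives O_C
  have h := TR_isGE f.push X n
  exact TStructure.t.isGE_of_iso ((rpushTR f).symm.app X) n

/-- `H^n(Rf_* M[0]) ≅ R^n f_* M`. -/
noncomputable def homologySingle [HasInjectiveResolutions (ModSite.Mod O_C)] (M : ModSite.Mod O_C) (n : ℕ) :
    (homologyFunctor (ModSite.Mod O_D) (n : ℤ)).obj
      ((SiteCmp.RpushD f).obj ((singleFunctor (ModSite.Mod O_C) 0).obj M)) ≅ (f.Rpush n).obj M :=
  haveI := hasKInj' O_C
  haveI := K578.Der.enoughInjectives O_C
  (homologyFunctor (ModSite.Mod O_D) (n : ℤ)).mapIso ((rpushTR f).app _) ≪≫ (HTRsingle f.push n).app M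

lemma isZero_homologySingle (M : ModSite.Mod O_C) (p : ℤ) (hp : p < 0) :
    IsZero ((homologyFunctor (ModSite.Mod O_D) p).obj
      ((SiteCmp.RpushD f).obj ((singleFunctor (ModSite.Mod O_C) 0).obj M))) := by
  have := lte f ((singleFunctor (ModSite.Mod O_C) 0).obj M) 0 inferInstance
  exact isZero_of_isGE _ 0 p hp

lemma isZero_homologySingle' [HasInjectiveResolutions (ModSite.Mod O_C)] (M : ModSite.Mod O_C) (N : ℤ)
    (h : ∀ p : ℕ, N < (p : ℤ) → IsZero ((f.Rpush p).obj M)) (p : ℤ) (hp : N < p) :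
    IsZero ((homologyFunctor (ModSite.Mod O_D) p).obj
      ((SiteCmp.RpushD f).obj ((singleFunctor (ModSite.Mod O_C) 0).obj M))) := by
  rcases lt_or_ge p 0 with h0 | h0
  · exact isZero_homologySingle f M p h0
  · obtain ⟨n, rfl⟩ := Int.eq_ofNat_of_zero_le h0
    exact (h n hp).of_iso (homologySingle f M n)

end K578.RpushSingle
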