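import Groth.Agent.CohtopB.TestSysLim

/-!
# Vanishing of `Hom(X[0], M[m])` from vanishing of `Ext^{m-j}(X, H^j M)`
-/

set_option autoImplicit false
universe w v u w' v' u'

open CategoryTheory CategoryTheory.Limits CategoryTheory.Pretriangulated DerivedCategory

namespace K578.Van

open Groth.Agent.CohtopB Groth.Agent.CohtopB.TestSys

variable {A : Type (u' + 1)} [Category.{u'} A] [Abelian A] [HasDerivedCategory.{w} A] [HasExt.{w'} A]

/-- `Hom(X[0], M[m]) = 0` for bounded `M` if `Ext^{m-j}(X, H^j(M)) = 0` for all `j`. -/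
lemma hom_eq_zero_of_bounded (X : A) (a m : ℤ) (n : ℕ) :
    ∀ (M : DerivedCategory A) (b : ℤ), b - a ≤ n → M.IsGE a → M.IsLE b →
      (∀ (j : ℤ) (k : ℕ), m - j = k → Subsingleton (Abelian.Ext.{w'} X ((homologyFunctor A j).obj M) k)) →
      ∀ z : (singleFunctor A 0).obj X ⟶ M⟦m⟧, z = 0 := by
  induction n with
  | zero =>
    intro M b hb h1 h2 h z
    have h3 : M.IsLE a := TStructure.t.isLE_of_le M b a (by simpa using hb)
    refine DTrunc.hom_eq_zero_of_concentrated.{w, u', u' + 1, w'} X M a m (fun k hk => h a k hk) z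
  | succ n ih =>
    intro M b hb h1 h2 h z
    refine TriLES.eq_zero₂ (TStructure.t.triangleLTGE_distinguished b M) _ m ?_ ?_ z
    · have h3 : TStructure.t.IsGE ((TStructure.t.truncLT b).obj M) a := inferInstance
      have h4 : TStructure.t.IsLE ((TStructure.t.truncLT b).obj M) (b - 1) := inferInstance
      refine ih _ (b - 1) (by push_cast at hb; lia) h3 h4 ?_
      intro j k hk
      by_cases hj : j < b
      · have := DTrunc.isIso_homology_map_truncLTι M b j hj
        exact subsingleton_ext_of_iso X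
          (asIso ((homologyFunctor A j).map ((TStructure.t.truncLTι b).app M))) k (h j k hk)
      · exact subsingleton_ext_of_isZero X (isZero_of_isLE _ (b - 1) j (by lia)) k
    · have h3 : TStructure.t.IsGE ((TStructure.t.truncGE b).obj M) b := inferInstance
      have h4 : TStructure.t.IsLE ((TStructure.t.truncGE b).obj M) b := inferInstance
      intro z
      refine DTrunc.hom_eq_zero_of_concentrated.{w, u', u' + 1, w'} X ((TStructure.t.truncGE b).obj M) b m
        (fun k hk => ?_) z
      have := DTrunc.isIso_homology_map_truncGEπ M b b le_rfl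
      exact subsingleton_ext_of_iso X
        (asIso ((homologyFunctor A b).map ((TStructure.t.truncGEπ b).app M))).symm k (h b k hk)

/-- The same without a bound on the amplitude. -/
lemma hom_eq_zero_of_bounded' (X : A) (a b m : ℤ)
    (M : DerivedCategory A) (h1 : M.IsGE a) (h2 : M.IsLE b)
    (h : ∀ (j : ℤ) (k : ℕ), m - j = k → Subsingleton (Abelian.Ext.{w'} X ((homologyFunctor A j).obj M) k))
    (z : (singleFunctor A 0).obj X ⟶ M⟦m⟧) : z = 0 :=
  hom_eq_zero_of_bounded X a m (b - a).toNat M b (by omega) h1 h2 h z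

/-- `Hom(X[0], M[m]) = 0` for `M` in `D^{≤ b}` which is the derived limit of its truncations, if
`Ext^k(X, H^q(M)) = 0` for `k > d` and all `q`, and `m > b + d`. -/
theorem hom_eq_zero_of_isLE (X : A) (Y : DerivedCategory A) [HasProduct (CohCx.truncTower Y)]
    (hY : CohCx.IsRlimVia (CohCx.truncTower Y) (CohCx.truncTowerMap Y) Y (CohCx.toTruncTower Y))
    (b : ℤ) [hb : Y.IsLE b] (d : ℤ)
    (h : ∀ (q : ℤ) (k : ℕ), d < k → Subsingleton (Abelian.Ext.{w'} X ((homologyFunctor A q).obj Y) k))
    (m : ℤ) (hm : b + d < m) (x : (singleFunctor A 0).obj X ⟶ Y⟦m⟧) : x = 0 := by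
  refine RlimHom.eq_zero_of_limOne hY _ m (fun z => ?_) x fun n => ?_
  · obtain ⟨z', hz'⟩ := TruncTower.limOneIsZero_of_eventually_surjective
      (fun n => (singleFunctor A 0).obj X ⟶ (CohCx.truncTower Y n)⟦m - 1⟧)
      (fun n => Preadditive.rightComp _ ((CohCx.truncTowerMap Y n)⟦m - 1⟧')) (d - m).toNat (fun n hn' => by
        refine TruncTower.surjective_step X Y n (m - 1) fun k hk => ?_
        exact h _ k (by push_cast at hk; omega)) z
    exact ⟨z', fun n => congr_fun hz' n⟩
  · refine hom_eq_zero_of_bounded'.{w, w', u'} X (-(n : ℤ)) b m (CohCx.truncTower Y n)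
      (TStructure.t.isGE_truncGE_obj _ _ _ le_rfl) ?_ (fun j k hk => ?_) _
    · exact inferInstanceAs (TStructure.t.IsLE ((TStructure.t.truncGE (-(n : ℤ))).obj Y) b)
    · by_cases hj : b < j
      · have h3 : (CohCx.truncTower Y n).IsLE b :=
          inferInstanceAs (TStructure.t.IsLE ((TStructure.t.truncGE (-(n : ℤ))).obj Y) b)
        exact subsingleton_ext_of_isZero X (isZero_of_isLE _ b j hj) k
      · by_cases hj' : -(n : ℤ) ≤ j
        · have := DTrunc.isIso_homology_map_truncGEπ Y (-(n : ℤ)) j hj'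
          exact subsingleton_ext_of_iso X
            (asIso ((homologyFunctor A j).map ((TStructure.t.truncGEπ (-(n : ℤ))).app Y))).symm k
            (h j k (by omega))
        · have h3 : (CohCx.truncTower Y n).IsGE (-(n : ℤ)) := TStructure.t.isGE_truncGE_obj _ _ _ le_rfl
          exact subsingleton_ext_of_isZero X (isZero_of_isGE _ (-(n : ℤ)) j (by lia)) k

/-- `hom_eq_zero_of_isLE` for `m = 0`, without a shift. -/
theorem hom_eq_zero_of_isLE₀ (X : A) (Y : DerivedCategory A) [HasProduct (CohCx.truncTower Y)]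
    (hY : CohCx.IsRlimVia (CohCx.truncTower Y) (CohCx.truncTowerMap Y) Y (CohCx.toTruncTower Y))
    (b : ℤ) [hb : Y.IsLE b] (d : ℤ)
    (h : ∀ (q : ℤ) (k : ℕ), d < k → Subsingleton (Abelian.Ext.{w'} X ((homologyFunctor A q).obj Y) k))
    (hm : b + d < 0) (x : (singleFunctor A 0).obj X ⟶ Y) : x = 0 := by
  have h6 := hom_eq_zero_of_isLE.{w, w', u'} X Y hY b d h 0 hm
    (x ≫ (shiftFunctorZero (DerivedCategory A) ℤ).inv.app Y)
  rw [← cancel_mono ((shiftFunctorZero (DerivedCategory A) ℤ).inv.app Y), h6, zero_comp]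

end K578.Van
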