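import Groth.Agent.SiteCmp.K578.LerayInj
import Groth.Agent.SiteCmp.K578.PushComp
import Groth.Agent.SiteCmp.K578.RpushSingle
import Groth.Agent.SiteCmp.K578.Van
import Groth.Agent.CohSite.K297.PushAcyc

/-!
# Leray for a morphism of ringed sites and a single module

* `subsingleton_ext_push` : `Ext^{n+1}(P(V), f_* I) = 0` for `I` injective.
* `subsingleton_ext_of_bound` : vanishing of `H^k(fn V, M)` for `k > N + d` from the vanishing of `R^p f_* M`,
  `p > N` and of `H^k(V, R^p f_* M)`, `k > d`.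
* `subsingleton_ext_push_of_acyclic` : `H^k(V, f_* M) = 0` if `H^k(fn V, M) = 0` and `R^p f_* M = 0` for `p > 0`.
-/

set_option autoImplicit false
universe w' w'' u

open CategoryTheory CategoryTheory.Limits Opposite DerivedCategory

attribute [local instance] HasDerivedCategory.standard

namespace K578.LerayPush

open K578.ModTest K578.LComp K578.Der K578.PushComp K578.Leray

variable {C : Type u} [SmallCategory C] {J : GrothendieckTopology C} {O_C : Sheaf J CommRingCat.{u}}
    {D : Type u} [SmallCategory D] {K : GrothendieckTopology D} {O_D : Sheaf K CommRingCat.{u}}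
    (f : ModSite.RMor O_C O_D)

/-- Direct images of injective modules are acyclic on objects. -/
theorem subsingleton_HU_push (I : ModSite.Mod O_C) [Injective I] (V : D) (n : ℕ) :
    Subsingleton (ModSite.HU O_D (f.push.obj I) (n + 1) V) :=
  K297.PushAcyc.subsingleton_HU_push J K f.fn (ModSite.toAb I)
    (fun V q => K578.ModExtPM.subsingleton_ext_free (ModSite.ringSh O_C) I (f.fn.obj V) q) V n

theorem subsingleton_ext_push [HasExt.{w'} (ModSite.Mod O_D)] (I : ModSite.Mod O_C) [Injective I] (V : D) (n : ℕ) :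
    Subsingleton (Abelian.Ext.{w'} ((PO O_D).obj V) (f.push.obj I) (n + 1)) :=
  (K578.ModExtPM.subsingleton_ext_iff O_D _ (n + 1) V).2 (subsingleton_HU_push f I V n)

variable [SiteCmp.HasRpushD f] 

/-- Leray. -/
theorem inj_and_srj (V : D) (M : ModSite.Mod O_C) (k : ℤ) :
    Inj (SiteCmp.RpushD f) ((comp f).η.app V) (((singleFunctor (ModSite.Mod O_C) 0).obj M)⟦k⟧) ∧
      Srj (SiteCmp.RpushD f) ((comp f).η.app V) (((singleFunctor (ModSite.Mod O_C) 0).obj M)⟦k⟧) := by
  let _ := rpushCommShift f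
  have := rpush_isTriangulated f
  have := enoughInjectives O_C
  have : HasExt.{u + 1} (ModSite.Mod O_C) := HasExt.standard _
  have : HasExt.{u + 1} (ModSite.Mod O_D) := HasExt.standard _
  exact K578.LerayInj.inj_and_srj.{u + 1, u + 1, u + 1, u + 1} (rpushUnitQ f) (uV f) (isIso_rpushUnitQ_app f)
    (uV_bijective f) (K578.RpushSingle.lte f) V (fun I _ n => subsingleton_ext_push f I V n) M k

section

variable [HasExt.{w'} (ModSite.Mod O_C)] [HasExt.{w''} (ModSite.Mod O_D)]

/-- Vanishing of the cohomology of `M` upstairs from the vanishing downstairs. -/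
theorem subsingleton_ext_of_bound (M : ModSite.Mod O_C) (V : D) (N d : ℤ)
    (h4 : ∀ p : ℤ, N < p → IsZero ((homologyFunctor (ModSite.Mod O_D) p).obj
      ((SiteCmp.RpushD f).obj ((singleFunctor (ModSite.Mod O_C) 0).obj M))))
    (hV : ∀ (q : ℤ) (k : ℕ), d < k → Subsingleton (Abelian.Ext.{w''} ((PO O_D).obj V)
      ((homologyFunctor (ModSite.Mod O_D) q).obj
        ((SiteCmp.RpushD f).obj ((singleFunctor (ModSite.Mod O_C) 0).obj M))) k))
    (k : ℕ) (hk : N + d < k) :
    Subsingleton (Abelian.Ext.{w'} ((PO O_C).obj (f.fn.obj V)) M k) := by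
  let _ := rpushCommShift f
  have := rpush_isTriangulated f
  have h1 : ((SiteCmp.RpushD f).obj ((singleFunctor (ModSite.Mod O_C) 0).obj M)).IsGE 0 :=
    K578.RpushSingle.lte f _ 0 inferInstance
  have h2 : ((SiteCmp.RpushD f).obj ((singleFunctor (ModSite.Mod O_C) 0).obj M)).IsLE N := by
    rw [isLE_iff]
    exact h4
  have h5 : Subsingleton (ShiftedHom ((singleFunctor (ModSite.Mod O_C) 0).obj ((PO O_C).obj (f.fn.obj V)))
      ((singleFunctor (ModSite.Mod O_C) 0).obj M) (k : ℤ)) := by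
    refine subsingleton_of_forall_eq 0 fun ξ => ?_
    apply (inj_and_srj f V M k).1 ξ
    rw [← cancel_mono (((SiteCmp.RpushD f).commShiftIso (k : ℤ)).hom.app _), zero_comp]
    refine Van.hom_eq_zero_of_bounded'.{u + 1, w'', u} ((PO O_D).obj V) 0 N k _ h1 h2 (fun j i hi => ?_) _
    by_cases hj : N < j
    · exact Groth.Agent.CohtopB.TestSys.subsingleton_ext_of_isZero _ (h4 j hj) i
    · exact hV j i (by omega)
  exact Equiv.subsingleton (Abelian.Ext.homEquiv (X := (PO O_C).obj (f.fn.obj V)) (Y := M) (n := k))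

/-- If `Rf_* M = F'[0]` and `H^k(fn V, M) = 0` then `H^k(V, F') = 0`. -/
theorem subsingleton_ext_of_iso (M : ModSite.Mod O_C) (F' : ModSite.Mod O_D)
    (e : (SiteCmp.RpushD f).obj ((singleFunctor (ModSite.Mod O_C) 0).obj M) ≅
      (singleFunctor (ModSite.Mod O_D) 0).obj F') (V : D) (k : ℕ)
    (hk : Subsingleton (Abelian.Ext.{w'} ((PO O_C).obj (f.fn.obj V)) M k)) :
    Subsingleton (Abelian.Ext.{w''} ((PO O_D).obj V) F' k) := by
  let _ := rpushCommShift f
  have := rpush_isTriangulated f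
  have h0 : Subsingleton (ShiftedHom ((singleFunctor (ModSite.Mod O_C) 0).obj ((PO O_C).obj (f.fn.obj V)))
      ((singleFunctor (ModSite.Mod O_C) 0).obj M) (k : ℤ)) :=
    Equiv.subsingleton (Abelian.Ext.homEquiv (X := (PO O_C).obj (f.fn.obj V)) (Y := M) (n := k)).symm
  have h5 : Subsingleton (ShiftedHom ((singleFunctor (ModSite.Mod O_D) 0).obj ((PO O_D).obj V))
      ((singleFunctor (ModSite.Mod O_D) 0).obj F') (k : ℤ)) := by
    refine subsingleton_of_forall_eq 0 fun x => ?_
    let e' : (SiteCmp.RpushD f).obj (((singleFunctor (ModSite.Mod O_C) 0).obj M)⟦(k : ℤ)⟧) ≅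
        ((singleFunctor (ModSite.Mod O_D) 0).obj F')⟦(k : ℤ)⟧ :=
      ((SiteCmp.RpushD f).commShiftIso (k : ℤ)).app _ ≪≫ (shiftFunctor _ (k : ℤ)).mapIso e
    obtain ⟨ξ, hξ⟩ := (inj_and_srj f V M k).2 (x ≫ e'.inv)
    have hξ0 : ξ = 0 := Subsingleton.elim (α := ShiftedHom ((singleFunctor (ModSite.Mod O_C) 0).obj
      ((PO O_C).obj (f.fn.obj V))) ((singleFunctor (ModSite.Mod O_C) 0).obj M) (k : ℤ)) ξ 0
    rw [hξ0, Functor.map_zero, comp_zero] at hξ
    rw [← cancel_mono e'.inv, ← hξ, zero_comp]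
  exact Equiv.subsingleton (Abelian.Ext.homEquiv (X := (PO O_D).obj V) (Y := F') (n := k))

end

end K578.LerayPush
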