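import Groth.Agent.SiteCmp.K578.ModExtPM
import Groth.Agent.SiteCmp.K578.Der
import Groth.Agent.CohtopA.DerProd
import Groth.Agent.CohtopB.TestSysLim

/-!
# The hypotheses "covered by objects with cofinal systems of coverings with bounded cohomology"
-/

set_option autoImplicit false
universe w w' u v₂ u₂

open CategoryTheory CategoryTheory.Limits Opposite DerivedCategory

namespace K578.Hyp

open Groth.Agent.CohtopB Groth.Agent.CohtopB.TestSys K578.ModTest K578.ModExtPM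

variable {C : Type u} [SmallCategory C] {J : GrothendieckTopology C}

lemma gen_of_cover (B : Set C)
    (hB : ∀ U : C, ∃ (ι : Type u) (Y : ι → C) (g : ∀ i, Y i ⟶ U), Sieve.ofArrows Y g ∈ J U ∧ ∀ i, Y i ∈ B)
    (U : C) : gen (⊤ : Sieve U) (fun V => V ∈ B) ∈ J U := by
  obtain ⟨ι, Y, g, h1, h2⟩ := hB U
  exact gen_mem_of_ofArrows ⊤ _ Y g (fun _ => trivial) h1 h2

/-- From the cohomological form of the hypothesis to the form with `Ext` groups out of `PM`. -/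
lemma gen_of_hA {D : Type u} [SmallCategory D] {K : GrothendieckTopology D} (O : Sheaf J CommRingCat.{u})
    [HasExt.{w'} (ModSite.Mod O)] (A : ObjectProperty (ModSite.Mod O)) (B' : Set D) (fn : D → C)
    (hA : ∀ V ∈ B', ∃ d : ℕ, ∀ T ∈ K V, ∃ (ι : Type u) (Y : ι → D) (g : ∀ i, Y i ⟶ V),
      (∀ i, T.arrows (g i)) ∧ Sieve.ofArrows Y g ∈ K V ∧
      ∀ (i : ι) (F : ModSite.Mod O), A F → ∀ k : ℕ, d < k → Subsingleton (ModSite.HU O F k (fn (Y i)))) :
    ∀ V, V ∈ B' → ∃ d : ℤ, ∀ T ∈ K V, gen T (fun W => ∀ M, A M → ∀ k : ℕ, d < k →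
      Subsingleton (Abelian.Ext.{w'} ((PM (ModSite.ringSh O)).obj (fn W)) M k)) ∈ K V := by
  intro V hV
  obtain ⟨d, hd⟩ := hA V hV
  refine ⟨d, fun T hT => ?_⟩
  obtain ⟨ι, Y, g, h1, h2, h3⟩ := hd T hT
  refine gen_mem_of_ofArrows T _ Y g h1 h2 fun i M hM k hk => ?_
  exact (subsingleton_ext_iff O M k (fn (Y i))).2 (h3 i M hM k (by exact_mod_cast hk))

section Rlim

variable (O : Sheaf J CommRingCat.{u}) [HasDerivedCategory.{w} (ModSite.Mod O)]

lemma hasProduct_truncTower (Y : DerivedCategory (ModSite.Mod O)) : HasProduct (CohCx.truncTower Y) := by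
  have := K578.Der.isGrothendieckAbelian O
  have := Groth.Agent.CohtopA.DerProd.hasLimitsOfShape_discrete.{w, u} (ModSite.Mod O) ℕ
  infer_instance

/-- The derived limit of the truncations. -/
theorem isRlimVia (A : ObjectProperty (ModSite.Mod O)) (B : Set C)
    (hB : ∀ U : C, ∃ (ι : Type u) (Y : ι → C) (g : ∀ i, Y i ⟶ U), Sieve.ofArrows Y g ∈ J U ∧ ∀ i, Y i ∈ B)
    (hA : ∀ V ∈ B, ∃ d : ℕ, ∀ T ∈ J V, ∃ (ι : Type u) (Y : ι → C) (g : ∀ i, Y i ⟶ V),
      (∀ i, T.arrows (g i)) ∧ Sieve.ofArrows Y g ∈ J V ∧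
      ∀ (i : ι) (F : ModSite.Mod O), A F → ∀ k : ℕ, d < k → Subsingleton (ModSite.HU O F k (Y i)))
    (Y : DerivedCategory (ModSite.Mod O)) [HasProduct (CohCx.truncTower Y)] (hY : WSerre.cohIn A Y) :
    CohCx.IsRlimVia (CohCx.truncTower Y) (CohCx.truncTowerMap Y) Y (CohCx.toTruncTower Y) := by
  have : HasExt.{u + 1} (ModSite.Mod O) := HasExt.standard _
  refine isRlimVia_truncTower (testSystem _) Y (fun V => V ∈ B) (gen_of_cover B hB) fun V hV => ?_
  obtain ⟨d, hd⟩ := gen_of_hA O A B id hA V hV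
  refine ⟨fun _ => d, fun T hT => ?_⟩
  refine J.superset_covering (gen_mono T fun W hW m k hk => ?_) (hd T hT)
  exact hW _ (hY _) k hk

theorem isRlimVia' (A : ObjectProperty (ModSite.Mod O)) (B : Set C)
    (hB : ∀ U : C, ∃ (ι : Type u) (Y : ι → C) (g : ∀ i, Y i ⟶ U), Sieve.ofArrows Y g ∈ J U ∧ ∀ i, Y i ∈ B)
    (hA : ∀ V ∈ B, ∃ d : ℕ, ∀ T ∈ J V, ∃ (ι : Type u) (Y : ι → C) (g : ∀ i, Y i ⟶ V),
      (∀ i, T.arrows (g i)) ∧ Sieve.ofArrows Y g ∈ J V ∧
      ∀ (i : ι) (F : ModSite.Mod O), A F → ∀ k : ℕ, d < k → Subsingleton (ModSite.HU O F k (Y i)))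
    (Y : DerivedCategory (ModSite.Mod O)) (hY : WSerre.cohIn A Y) :
    ∃ _ : HasProduct (CohCx.truncTower Y),
      CohCx.IsRlimVia (CohCx.truncTower Y) (CohCx.truncTowerMap Y) Y (CohCx.toTruncTower Y) :=
  ⟨hasProduct_truncTower O Y, haveI := hasProduct_truncTower O Y; isRlimVia O A B hB hA Y hY⟩

end Rlim

end K578.Hyp
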