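import Groth.Agent.SiteCmp.K578.Bound
import Groth.Agent.SiteCmp.K578.PushComp
import Groth.Agent.SiteCmp.K578.RpushSingle
import Groth.Agent.SiteCmp.K578.Hyp

/-!
# Vanishing of higher direct images from local vanishing of cohomology
-/

set_option autoImplicit false
universe w₁ w₂ v₁ v₂ v₃ v₄ u₁ u₂ u₃ u₄ w' u

open CategoryTheory CategoryTheory.Limits CategoryTheory.Pretriangulated Opposite DerivedCategory

namespace K578.LocZero

section Abs

open Groth.Agent.CohtopB Groth.Agent.CohtopB.TestSys K578.LComp K578.Bound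

variable {A₁ : Type u₁} [Category.{v₁} A₁] [Abelian A₁] [HasDerivedCategory.{w₁} A₁]
  {A₂ : Type u₂} [Category.{v₂} A₂] [Abelian A₂] [HasDerivedCategory.{w₂} A₂]
  {C : Type u₃} [Category.{v₃} C] {P₁ : C ⥤ A₁}
  {D : Type u₄} [Category.{v₄} D] {K : GrothendieckTopology D} {P₂ : D ⥤ A₂} (hP₂ : TestSystem K P₂)
  {fn : D ⥤ C} {RF : DerivedCategory A₁ ⥤ DerivedCategory A₂} [RF.PreservesZeroMorphisms]
  (cmp : LocComp K P₁ P₂ fn RF)

include hP₂ cmp in
/-- `H⁰(RF X) = 0` if locally all maps `P₁(fn W)[0] ⟶ X` vanish. -/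
theorem isZero_H0_of_local (X : DerivedCategory A₁) (B' : D → Prop)
    (hB' : ∀ U : D, gen (⊤ : Sieve U) B' ∈ K U)
    (h : ∀ W, B' W → ∀ ξ : (singleFunctor A₁ 0).obj (P₁.obj (fn.obj W)) ⟶ X, ξ = 0) :
    IsZero ((homologyFunctor A₂ 0).obj (RF.obj X)) := by
  refine hP₂.isZero _ fun U s => ?_
  obtain ⟨T1, hT1, h1⟩ := loc_surj₀ hP₂ s
  refine eq_zero_of_gen hP₂ T1 B' (gen_mem_of_cover B' hB' T1 hT1) s fun {V} f hf _ => ?_
  obtain ⟨x, hx⟩ := h1 f hf
  obtain ⟨T2, hT2, h2⟩ := cmp.surj x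
  rw [← hx]
  refine eq_zero_of_gen hP₂ T2 B' (gen_mem_of_cover B' hB' T2 hT2) _ fun {W} g hg hW => ?_
  obtain ⟨ξ, hξ⟩ := h2 g hg
  rw [← can₀_precomp, ← hξ, h W hW ξ, RF.map_zero, comp_zero, can₀_zero]

end Abs

attribute [local instance] HasDerivedCategory.standard

open Groth.Agent.CohtopB Groth.Agent.CohtopB.TestSys K578.ModTest

variable {C : Type u} [SmallCategory C] {J : GrothendieckTopology C} {O_C : Sheaf J CommRingCat.{u}}
    {D : Type u} [SmallCategory D] {K : GrothendieckTopology D} {O_D : Sheaf K CommRingCat.{u}}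
    (f : ModSite.RMor O_C O_D) [SiteCmp.HasRpushD f]

/-- `H^p(Rf_* M[0]) = 0` if `H^p(fn W, M) = 0` for `W` in a covering class. -/
theorem isZero_homologySingle_of_local (M : ModSite.Mod O_C) (p : ℕ) (B' : Set D)
    (hB' : ∀ U : D, ∃ (ι : Type u) (Y : ι → D) (g : ∀ i, Y i ⟶ U), Sieve.ofArrows Y g ∈ K U ∧ ∀ i, Y i ∈ B')
    (h : ∀ W ∈ B', Subsingleton (ModSite.HU O_C M p (f.fn.obj W))) :
    IsZero ((homologyFunctor (ModSite.Mod O_D) (p : ℤ)).obj
      ((SiteCmp.RpushD f).obj ((singleFunctor (ModSite.Mod O_C) 0).obj M))) := by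
  let _ := K578.Der.rpushCommShift f
  have := K578.Der.rpush_isTriangulated f
  have : HasExt.{u + 1} (ModSite.Mod O_C) := HasExt.standard _
  have h1 := isZero_H0_of_local (testSystem _) (K578.PushComp.comp f)
    (((singleFunctor (ModSite.Mod O_C) 0).obj M)⟦(p : ℤ)⟧) (fun W => W ∈ B')
    (K578.Hyp.gen_of_cover B' hB') (fun W hW ξ => ?_)
  · exact h1.of_iso ((((homologyFunctor (ModSite.Mod O_D) 0).shiftIso (p : ℤ) 0 p (by lia)).app _).symm ≪≫
      (homologyFunctor (ModSite.Mod O_D) 0).mapIso (((SiteCmp.RpushD f).commShiftIso (p : ℤ)).symm.app _))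
  · have h2 := (K578.ModExtPM.subsingleton_ext_iff O_C M p (f.fn.obj W)).2 (h W hW)
    exact DTrunc.single_hom_eq_zero _ M 0 p p (by simp) h2 ξ

omit [SiteCmp.HasRpushD f] in
lemma preservesFiniteLimits_push : PreservesFiniteLimits f.push := by
  have := f.adj.rightAdjoint_preservesLimits
  infer_instance

/-- `H⁰(Rf_* M[0]) = f_* M`, naturally. -/
noncomputable def homologyZeroIso [HasInjectiveResolutions (ModSite.Mod O_C)] :
    singleFunctor (ModSite.Mod O_C) 0 ⋙ SiteCmp.RpushD f ⋙ homologyFunctor (ModSite.Mod O_D) 0 ≅ f.push :=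
  haveI := K578.RpushSingle.hasKInj' O_C
  haveI := K578.Der.enoughInjectives O_C
  haveI := preservesFiniteLimits_push f
  Functor.isoWhiskerLeft (singleFunctor (ModSite.Mod O_C) 0)
    (Functor.isoWhiskerRight (K578.RpushSingle.rpushTR f) (homologyFunctor (ModSite.Mod O_D) 0)) ≪≫
    Groth.Agent.Etrest.RDer3.HTRsingle f.push 0 ≪≫ f.push.rightDerivedZeroIsoSelf

/-- `f_*` is exact on short exact sequences whose kernel has `R¹ f_* = 0`. -/
lemma epi_push [HasInjectiveResolutions (ModSite.Mod O_C)] (S : ShortComplex (ModSite.Mod O_C))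
    (hS : S.ShortExact) (h : IsZero ((homologyFunctor (ModSite.Mod O_D) 1).obj
      ((SiteCmp.RpushD f).obj ((singleFunctor (ModSite.Mod O_C) 0).obj S.X₁)))) :
    Epi (f.push.map S.g) := by
  let _ := K578.Der.rpushCommShift f
  have := K578.Der.rpush_isTriangulated f
  have h1 := (SiteCmp.RpushD f).map_distinguished _ hS.singleTriangle_distinguished
  have h2 : Epi ((homologyFunctor (ModSite.Mod O_D) 0).map ((SiteCmp.RpushD f).map hS.singleTriangle.mor₂)) :=
    (HomologySequence.epi_homologyMap_mor₂_iff _ h1 0 1 rfl).2 (h.eq_of_tgt _ _)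
  have h3 := (homologyZeroIso f).hom.naturality S.g
  have h4 : f.push.map S.g = (homologyZeroIso f).inv.app _ ≫ (singleFunctor (ModSite.Mod O_C) 0 ⋙
      SiteCmp.RpushD f ⋙ homologyFunctor (ModSite.Mod O_D) 0).map S.g ≫ (homologyZeroIso f).hom.app _ := by
    rw [h3, Iso.inv_hom_id_app_assoc]
  rw [h4]
  have : Epi ((singleFunctor (ModSite.Mod O_C) 0 ⋙
      SiteCmp.RpushD f ⋙ homologyFunctor (ModSite.Mod O_D) 0).map S.g) := h2
  exact epi_comp _ _

/-- `Rf_* M[0] = (f_* M)[0]` if the higher direct images vanish. -/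
lemma nonempty_iso_single [HasInjectiveResolutions (ModSite.Mod O_C)] (M : ModSite.Mod O_C)
    (h : ∀ p : ℤ, 0 < p → IsZero ((homologyFunctor (ModSite.Mod O_D) p).obj
      ((SiteCmp.RpushD f).obj ((singleFunctor (ModSite.Mod O_C) 0).obj M)))) :
    Nonempty ((SiteCmp.RpushD f).obj ((singleFunctor (ModSite.Mod O_C) 0).obj M) ≅
      (singleFunctor (ModSite.Mod O_D) 0).obj (f.push.obj M)) := by
  have h1 : ((SiteCmp.RpushD f).obj ((singleFunctor (ModSite.Mod O_C) 0).obj M)).IsGE 0 :=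
    K578.RpushSingle.lte f _ 0 inferInstance
  have h2 : ((SiteCmp.RpushD f).obj ((singleFunctor (ModSite.Mod O_C) 0).obj M)).IsLE 0 := by
    rw [isLE_iff]
    exact h
  obtain ⟨e⟩ := Groth.Agent.LoccohB.Devissage.nonempty_iso_single
    ((SiteCmp.RpushD f).obj ((singleFunctor (ModSite.Mod O_C) 0).obj M)) 0
  exact ⟨e ≪≫ (singleFunctor (ModSite.Mod O_D) 0).mapIso ((homologyZeroIso f).app M)⟩

end K578.LocZero
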