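import Groth.Agent.SiteCmp.K578.AdjDev
import Groth.Agent.PerfB.TriDev
import Groth.Prelude.Def_WeakSerre

/-!
# Cohomology in a weak Serre class and left t-exact functors; equivalences on `D^+`
-/

set_option autoImplicit false

universe w w' v v' u u'

open CategoryTheory CategoryTheory.Limits Pretriangulated Triangulated DerivedCategory

namespace K578.CohDev

open K578.AdjDev Groth.Agent.LoccohB.Devissage

variable {A : Type u} [Category.{v} A] [Abelian A] [HasDerivedCategory.{w} A]
  {B : Type u'} [Category.{v'} B] [Abelian B] [HasDerivedCategory.{w'} B]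

section CohIn

variable (P : ObjectProperty A) [WSerre.IsWeakSerre P]

lemma cohIn_of_isZero (Z : DerivedCategory A) (hZ : IsZero Z) : WSerre.cohIn P Z :=
  fun i => P.prop_of_isZero ((homologyFunctor A i).map_isZero hZ)

instance : (WSerre.cohIn P).IsClosedUnderIsomorphisms where
  of_iso e h i := P.prop_of_iso ((homologyFunctor A i).mapIso e) (h i)

lemma cohIn_ext₂ (T : Triangle (DerivedCategory A)) (hT : T ∈ distTriang _)
    (h₁ : WSerre.cohIn P T.obj₁) (h₃ : WSerre.cohIn P T.obj₃) : WSerre.cohIn P T.obj₂ :=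
  fun i => Groth.Agent.PerfB.TriDev.five_tri P T hT (i - 1) i (i + 1) (by lia) rfl
    (h₃ _) (h₁ _) (h₃ _) (h₁ _)

lemma cohIn_shift (X : DerivedCategory A) (n : ℤ) (h : WSerre.cohIn P X) :
    WSerre.cohIn P (X⟦n⟧) :=
  fun i => P.prop_of_iso (((homologyFunctor A 0).shiftIso n i (n + i) rfl).app X).symm (h (n + i))

lemma cohIn_single (M : A) (hM : P M) (n : ℤ) : WSerre.cohIn P ((singleFunctor A n).obj M) := by
  intro i
  by_cases hi : i = n
  · subst hi
    exact P.prop_of_iso ((singleFunctorCompHomologyFunctorIso A i).app M).symm hM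
  · refine P.prop_of_isZero ?_
    rcases lt_or_gt_of_ne hi with h | h
    · exact isZero_of_isGE _ n i h
    · exact isZero_of_isLE _ n i h

lemma cohIn_of_trunc (X : DerivedCategory A) (h : WSerre.cohIn P X) (T : Triangle (DerivedCategory A))
    (hX : T.obj₂ = X) (n : ℤ) (h1 : T.obj₁.IsLE n)
    (hi : ∀ i, i ≤ n → IsIso ((homologyFunctor A i).map T.mor₁)) : WSerre.cohIn P T.obj₁ := by
  subst hX
  intro i
  by_cases h' : i ≤ n
  · have := hi i h'
    exact P.prop_of_iso (asIso ((homologyFunctor A i).map T.mor₁)).symm (h i)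
  · exact P.prop_of_isZero (isZero_of_isLE _ n i (by lia))

end CohIn

section LTE

variable (Q : ObjectProperty B) [WSerre.IsWeakSerre Q]
  (Φ : DerivedCategory A ⥤ DerivedCategory B) [Φ.CommShift ℤ] [Φ.IsTriangulated]

/-- Bounded objects: cohomology of `Φ X` in a weak Serre class. -/
theorem cohIn_map_of_bounded (X : DerivedCategory A) (a b : ℤ)
    [X.IsGE a] [X.IsLE b]
    (h : ∀ q : ℤ, WSerre.cohIn Q
      (Φ.obj ((singleFunctor A 0).obj ((homologyFunctor A q).obj X)))) :
    WSerre.cohIn Q (Φ.obj X) := by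
  refine devissage ((WSerre.cohIn Q).inverseImage Φ) (fun Z hZ => ?_) (fun T hT h₁ h₃ => ?_) X a b
    (fun i => ?_)
  · exact cohIn_of_isZero Q _ (Φ.map_isZero hZ)
  · exact cohIn_ext₂ Q _ (Φ.map_distinguished T hT) h₁ h₃
  · have h1 := cohIn_shift Q _ (-i) (h i)
    refine (WSerre.cohIn Q).prop_of_iso ?_ h1
    exact (Φ.commShiftIso (-i)).symm.app _ ≪≫
      Φ.mapIso (((singleFunctors A).shiftIso (-i) i 0 (by lia)).app _)

/-- Bounded below objects and left t-exact functors: cohomology of `Φ X` in a weak Serre class. -/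
theorem cohIn_map_of_isGE (hΦ : LTE Φ) (X : DerivedCategory A) (a : ℤ) [hX : X.IsGE a]
    (h : ∀ q : ℤ, WSerre.cohIn Q
      (Φ.obj ((singleFunctor A 0).obj ((homologyFunctor A q).obj X)))) :
    WSerre.cohIn Q (Φ.obj X) := by
  intro i
  obtain ⟨T, hT, rfl, h1, h3, hi1, hi3⟩ := exists_trunc X i (i + 1) rfl
  have hGE : T.obj₁.IsGE a := by
    rw [isGE_iff]
    intro j hj
    by_cases hj' : j ≤ i
    · have := hi1 j hj'
      exact (isZero_of_isGE _ a j hj).of_iso (asIso ((homologyFunctor A j).map T.mor₁))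
    · exact isZero_of_isLE _ i j (by lia)
  have h2 := cohIn_map_of_bounded Q Φ T.obj₁ a i (fun q => ?_)
  · have h3' := hΦ _ (i + 1) h3
    have := isIso_homology_map_mor₁ Φ T hT i (isZero_of_isGE _ (i + 1) i (by lia))
      (isZero_of_isGE _ (i + 1) (i - 1) (by lia))
    exact Q.prop_of_iso (asIso ((homologyFunctor B i).map (Φ.map T.mor₁))) (h2 i)
  · by_cases hq : q ≤ i
    · have := hi1 q hq
      exact (WSerre.cohIn Q).prop_of_iso (Φ.mapIso ((singleFunctor A 0).mapIso
        (asIso ((homologyFunctor A q).map T.mor₁)).symm)) (h q)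
    · exact cohIn_of_isZero Q _ (Φ.map_isZero ((singleFunctor A 0).map_isZero
        (isZero_of_isLE _ i q (by lia))))

end LTE

/-! ### Exact functors with a derived right adjoint -/

section Exact

variable (F : B ⥤ A) [F.Additive] [PreservesFiniteLimits F] [PreservesFiniteColimits F]
  {G : DerivedCategory A ⥤ DerivedCategory B} (adj : F.mapDerivedCategory ⊣ G)
  (P : ObjectProperty A) [WSerre.IsWeakSerre P] (P' : ObjectProperty B) [WSerre.IsWeakSerre P']
  (h2a : ∀ M : B, P' M → P (F.obj M))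
  (h2c : ∀ M : A, P M → ∃ M' : B, P' M' ∧ Nonempty (F.obj M' ≅ M))
  (h3 : ∀ M : B, P' M → IsIso (adj.unit.app ((singleFunctor B 0).obj M)))

omit [WSerre.IsWeakSerre P'] in
include h2a in
lemma cohIn_mapDer (Y : DerivedCategory B) (hY : WSerre.cohIn P' Y) :
    WSerre.cohIn P (F.mapDerivedCategory.obj Y) :=
  fun i => P.prop_of_iso (Groth.Agent.Dcoh.MapDer.homologyMapDerApp F i Y).symm (h2a _ (hY i))

omit [WSerre.IsWeakSerre P] [WSerre.IsWeakSerre P'] in
include h2c h3 in
lemma isIso_counit_single (M : A) (hM : P M) :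
    IsIso (adj.counit.app ((singleFunctor A 0).obj M)) := by
  obtain ⟨M', hM', ⟨e⟩⟩ := h2c M hM
  have h1 := h3 M' hM'
  let e' : F.mapDerivedCategory.obj ((singleFunctor B 0).obj M') ≅ (singleFunctor A 0).obj M :=
    (F.mapDerivedCategorySingleFunctor 0).app M' ≪≫ (singleFunctor A 0).mapIso e
  rw [← NatTrans.isIso_app_iff_of_iso adj.counit e']
  have h2 := adj.left_triangle_components ((singleFunctor B 0).obj M')
  have h3' : IsIso (F.mapDerivedCategory.map (adj.unit.app ((singleFunctor B 0).obj M')) ≫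
      adj.counit.app (F.mapDerivedCategory.obj ((singleFunctor B 0).obj M'))) := by
    rw [h2]
    exact IsIso.id _
  exact IsIso.of_isIso_comp_left
    (F.mapDerivedCategory.map (adj.unit.app ((singleFunctor B 0).obj M'))) _

omit [WSerre.IsWeakSerre P] in
include h2c h3 in
lemma cohIn_rightAdjoint_single (M : A) (hM : P M) :
    WSerre.cohIn P' (G.obj ((singleFunctor A 0).obj M)) := by
  obtain ⟨M', hM', ⟨e⟩⟩ := h2c M hM
  have h1 := h3 M' hM'
  let e' : F.mapDerivedCategory.obj ((singleFunctor B 0).obj M') ≅ (singleFunctor A 0).obj M :=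
    (F.mapDerivedCategorySingleFunctor 0).app M' ≪≫ (singleFunctor A 0).mapIso e
  have e'' : (singleFunctor B 0).obj M' ≅ G.obj ((singleFunctor A 0).obj M) :=
    asIso (adj.unit.app ((singleFunctor B 0).obj M')) ≪≫ G.mapIso e'
  exact (WSerre.cohIn P').prop_of_iso e'' (cohIn_single P' M' hM' 0)

include h2a h2c h3 in
theorem equivPlus :
    (∀ Y : DerivedCategory B, WSerre.cohInPlus P' Y →
      WSerre.cohInPlus P (F.mapDerivedCategory.obj Y) ∧ IsIso (adj.unit.app Y)) ∧
    (∀ X : DerivedCategory A, WSerre.cohInPlus P X →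
      WSerre.cohInPlus P' (G.obj X) ∧ IsIso (adj.counit.app X)) := by
  refine ⟨?_, ?_⟩
  · rintro Y ⟨hY, a, hYa⟩
    have hYa' : Y.IsGE a := ⟨hYa.ge⟩
    refine ⟨⟨cohIn_mapDer F P P' h2a Y hY, a, ?_⟩, ?_⟩
    · have := Groth.Agent.Dcoh.MapDer.isGE_map F a Y
      exact ⟨this.ge⟩
    · exact isIso_unit_mapDer F adj Y a hYa' (fun q => h3 _ (hY q))
  · rintro X ⟨hX, a, hXa⟩
    have hXa' : X.IsGE a := ⟨hXa.ge⟩
    have hG := lte_rightAdjoint_mapDer F adj
    let _ := adj.rightAdjointCommShift ℤ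
    have := adj.commShift_of_leftAdjoint ℤ
    have := adj.isTriangulated_rightAdjoint
    refine ⟨⟨?_, a, ⟨(hG X a hXa').ge⟩⟩, ?_⟩
    · exact cohIn_map_of_isGE P' G hG X a (fun q => cohIn_rightAdjoint_single F adj P P' h2c h3 _ (hX q))
    · exact isIso_counit_mapDer F adj X a hXa'
        (fun q => isIso_counit_single F adj P P' h2c h3 _ (hX q))

end Exact

end K578.CohDev
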