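import Groth.Agent.SiteCmp.K578.LocComp
import Groth.Agent.SiteCmp.K578.Van
import Groth.Agent.SiteCmp.K578.CohDev

/-!
# Bounds for the cohomology of `RF` on unbounded objects with cohomology in a weak Serre class
-/

set_option autoImplicit false
universe w₁ w₂ w' v₂ v₃ v₄ u₁ u₂ u₃ u₄

open CategoryTheory CategoryTheory.Limits CategoryTheory.Pretriangulated DerivedCategory

namespace K578.Bound

open Groth.Agent.CohtopB Groth.Agent.CohtopB.TestSys K578.LComp

section Can0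

variable {A : Type u₂} [Category.{v₂} A] [Abelian A] [HasDerivedCategory.{w₂} A]

/-- The map `Hom(X[0], M) ⟶ Hom(X, H⁰ M)`. -/
noncomputable def can₀ {X : A} {M : DerivedCategory A} (x : (singleFunctor A 0).obj X ⟶ M) :
    X ⟶ (homologyFunctor A 0).obj M :=
  (Can.sIso X).hom ≫ (homologyFunctor A 0).map x

lemma can₀_precomp {X Y : A} {M : DerivedCategory A} (f : Y ⟶ X) (x : (singleFunctor A 0).obj X ⟶ M) :
    can₀ ((singleFunctor A 0).map f ≫ x) = f ≫ can₀ x := by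
  rw [can₀, can₀, Functor.map_comp, Can.sIso_hom_naturality_assoc]

lemma can₀_postcomp {X : A} {M N : DerivedCategory A} (x : (singleFunctor A 0).obj X ⟶ M) (φ : M ⟶ N) :
    can₀ (x ≫ φ) = can₀ x ≫ (homologyFunctor A 0).map φ := by
  rw [can₀, can₀, Functor.map_comp, Category.assoc]

lemma can₀_zero {X : A} {M : DerivedCategory A} :
    can₀ (0 : (singleFunctor A 0).obj X ⟶ M) = 0 := by
  rw [can₀, Functor.map_zero, comp_zero]

variable {C : Type u₃} [Category.{v₃} C] {J : GrothendieckTopology C} {P : C ⥤ A} (hP : TestSystem J P)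

include hP

/-- The canonical map is locally injective. -/
lemma loc_inj₀ {U : C} {M : DerivedCategory A} (x : (singleFunctor A 0).obj (P.obj U) ⟶ M)
    (hx : can₀ x = 0) : ∃ T ∈ J U, ∀ {V : C} (g : V ⟶ U), T g →
      (singleFunctor A 0).map (P.map g) ≫ x = 0 := by
  have h1 : (homologyFunctor A 0).map x = 0 := by
    rw [← cancel_epi (Can.sIso (P.obj U)).hom, comp_zero]
    exact hx
  obtain ⟨T, hT, h⟩ := loc_inj hP (n := 0) (x ≫ (shiftFunctorZero (DerivedCategory A) ℤ).inv.app M) (by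
    rw [Can.can_eq_zero_iff, Functor.map_comp, h1, zero_comp])
  refine ⟨T, hT, fun g hg => ?_⟩
  rw [← cancel_mono ((shiftFunctorZero (DerivedCategory A) ℤ).inv.app M), Category.assoc, h g hg, zero_comp]

/-- The canonical map is locally surjective. -/
lemma loc_surj₀ {U : C} {M : DerivedCategory A} (s : P.obj U ⟶ (homologyFunctor A 0).obj M) :
    ∃ T ∈ J U, ∀ {V : C} (g : V ⟶ U), T g →
      ∃ x : (singleFunctor A 0).obj (P.obj V) ⟶ M, can₀ x = P.map g ≫ s := by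
  obtain ⟨T, hT, h⟩ := loc_surj hP (n := 0) s
  refine ⟨T, hT, fun g hg => ?_⟩
  obtain ⟨x, hx⟩ := h g hg
  refine ⟨x ≫ (shiftFunctorZero (DerivedCategory A) ℤ).hom.app M, ?_⟩
  rw [← hx, can₀_postcomp, Can.can, can₀, Category.assoc]
  congr 2
  exact ((homologyFunctor A 0).shiftIso_zero_hom_app (0 : ℤ) M).symm

end Can0

variable {A₁ : Type (u₁ + 1)} [Category.{u₁} A₁] [Abelian A₁] [HasDerivedCategory.{w₁} A₁] [HasExt.{w'} A₁]
  {A₂ : Type u₂} [Category.{v₂} A₂] [Abelian A₂] [HasDerivedCategory.{w₂} A₂]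
  {C : Type u₃} [Category.{v₃} C] {P₁ : C ⥤ A₁}
  {D : Type u₄} [Category.{v₄} D] {K : GrothendieckTopology D} {P₂ : D ⥤ A₂} (hP₂ : TestSystem K P₂)
  {fn : D ⥤ C} {RF : DerivedCategory A₁ ⥤ DerivedCategory A₂} [RF.CommShift ℤ] [RF.IsTriangulated]
  (cmp : LocComp K P₁ P₂ fn RF) (S : ObjectProperty A₁) [WSerre.IsWeakSerre S]

omit [HasExt.{w'} A₁] [WSerre.IsWeakSerre S] in
/-- Bounded objects. -/
lemma isZero_of_bounded (N : ℤ)
    (h3 : ∀ M, S M → ∀ p : ℤ, N < p →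
      IsZero ((homologyFunctor A₂ p).obj (RF.obj ((singleFunctor A₁ 0).obj M))))
    (Y : DerivedCategory A₁) (hY : WSerre.cohIn S Y) (a b : ℤ) [hb : Y.IsGE b] [ha : Y.IsLE a] (haN : a + N < 0) :
    IsZero ((homologyFunctor A₂ 0).obj (RF.obj Y)) := by
  let P : ObjectProperty (DerivedCategory A₁) := fun Z => IsZero ((homologyFunctor A₂ 0).obj (RF.obj Z))
  have : P.IsClosedUnderIsomorphisms := ⟨fun e h => h.of_iso ((RF ⋙ homologyFunctor A₂ 0).mapIso e.symm)⟩
  refine Groth.Agent.LoccohB.Devissage.devissage P (fun Z hZ => ?_) (fun T hT h₁ h₃ => ?_) Y b a (fun i => ?_)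
  · exact (homologyFunctor A₂ 0).map_isZero (RF.map_isZero hZ)
  · exact (HomologySequence.exact₂ _ (RF.map_distinguished T hT) 0).isZero_of_both_zeros
      (h₁.eq_of_src _ _) (h₃.eq_of_tgt _ _)
  · by_cases hi : a < i
    · exact (homologyFunctor A₂ 0).map_isZero (RF.map_isZero ((singleFunctor A₁ i).map_isZero
        (isZero_of_isLE _ a i hi)))
    · have h4 := h3 _ (hY i) (-i) (by omega)
      refine h4.of_iso (?_ ≪≫ ((homologyFunctor A₂ 0).shiftIso (-i) 0 (-i) (by lia)).app _)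
      exact (homologyFunctor A₂ 0).mapIso (RF.mapIso (((singleFunctors A₁).shiftIso (-i) i 0 (by lia)).symm.app _) ≪≫
        (RF.commShiftIso (-i)).app _)

include hP₂ cmp in
/-- The case of `H⁰`. -/
theorem isZero_H0 (N : ℤ)
    (hR : ∀ Y, WSerre.cohIn S Y → ∃ _ : HasProduct (CohCx.truncTower Y),
      CohCx.IsRlimVia (CohCx.truncTower Y) (CohCx.truncTowerMap Y) Y (CohCx.toTruncTower Y))
    (h3 : ∀ M, S M → ∀ p : ℤ, N < p →
      IsZero ((homologyFunctor A₂ p).obj (RF.obj ((singleFunctor A₁ 0).obj M))))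
    (B' : D → Prop) (hB' : ∀ U : D, gen (⊤ : Sieve U) B' ∈ K U)
    (h2 : ∀ V, B' V → ∃ d : ℤ, ∀ T ∈ K V, gen T (fun W => ∀ M, S M → ∀ k : ℕ, d < k →
      Subsingleton (Abelian.Ext.{w'} (P₁.obj (fn.obj W)) M k)) ∈ K V)
    (Y : DerivedCategory A₁) (hY : WSerre.cohIn S Y) (a : ℤ) [ha : Y.IsLE a] (haN : a + N < 0) :
    IsZero ((homologyFunctor A₂ 0).obj (RF.obj Y)) := by
  refine hP₂.isZero _ fun U s => ?_
  refine eq_zero_of_gen hP₂ ⊤ B' (hB' U) s fun {V} f _ hV => ?_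
  obtain ⟨d, hd⟩ := h2 V hV
  -- the truncation
  have hge : WSerre.cohIn S ((TStructure.t.truncGE (-d)).obj Y) := by
    intro i
    by_cases hi : -d ≤ i
    · have := DTrunc.isIso_homology_map_truncGEπ Y (-d) i hi
      exact S.prop_of_iso (asIso ((homologyFunctor A₁ i).map ((TStructure.t.truncGEπ (-d)).app Y))) (hY i)
    · have h5 : ((TStructure.t.truncGE (-d)).obj Y).IsGE (-d) := TStructure.t.isGE_truncGE_obj _ _ _ le_rfl
      exact S.prop_of_isZero (isZero_of_isGE _ (-d) i (by lia))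
  have hlt : WSerre.cohIn S ((TStructure.t.truncLT (-d)).obj Y) := by
    intro i
    by_cases hi : i < -d
    · have := DTrunc.isIso_homology_map_truncLTι Y (-d) i hi
      exact S.prop_of_iso (asIso ((homologyFunctor A₁ i).map ((TStructure.t.truncLTι (-d)).app Y))).symm (hY i)
    · have h5 : ((TStructure.t.truncLT (-d)).obj Y).IsLE (-d - 1) :=
        TStructure.t.isLE_truncLT_obj _ _ _ (by lia)
      exact S.prop_of_isZero (isZero_of_isLE _ (-d - 1) i (by lia))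
  have hzero : IsZero ((homologyFunctor A₂ 0).obj (RF.obj ((TStructure.t.truncGE (-d)).obj Y))) := by
    have h5 : ((TStructure.t.truncGE (-d)).obj Y).IsGE (-d) := TStructure.t.isGE_truncGE_obj _ _ _ le_rfl
    have h6 : ((TStructure.t.truncGE (-d)).obj Y).IsLE a :=
      inferInstanceAs (TStructure.t.IsLE ((TStructure.t.truncGE (-d)).obj Y) a)
    exact isZero_of_bounded S N h3 _ hge a (-d) haN
  let s' : P₂.obj V ⟶ (homologyFunctor A₂ 0).obj (RF.obj Y) := P₂.map f ≫ s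
  let T2 : Sieve V :=
    { arrows := fun W g => ∃ ξ : (singleFunctor A₁ 0).obj (P₁.obj (fn.obj W)) ⟶ Y,
        can₀ (cmp.η.app W ≫ RF.map ξ) = P₂.map g ≫ s' ∧ ξ ≫ (TStructure.t.truncGEπ (-d)).app Y = 0
      downward_closed := by
        rintro W W' g ⟨ξ, h1, h2⟩ k
        refine ⟨(singleFunctor A₁ 0).map (P₁.map (fn.map k)) ≫ ξ, ?_, ?_⟩
        · have h5 := cmp.η.naturality k
          dsimp only [Functor.comp_map] at h5
          rw [RF.map_comp, ← reassoc_of% h5, can₀_precomp, h1, P₂.map_comp, Category.assoc]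
        · rw [Category.assoc, h2, comp_zero] }
  have hT2 : T2 ∈ K V := by
    obtain ⟨T1, hT1, h1⟩ := loc_surj₀ hP₂ s'
    refine K.transitive hT1 _ fun W g hg => ?_
    obtain ⟨x, hx⟩ := h1 g hg
    obtain ⟨T3, hT3, h3⟩ := cmp.surj x
    refine K.transitive hT3 _ fun W' g' hg' => ?_
    obtain ⟨ξ, hξ⟩ := h3 g' hg'
    have hs : can₀ (cmp.η.app W' ≫ RF.map ξ) = P₂.map (g' ≫ g) ≫ s' := by
      rw [hξ, can₀_precomp, hx, P₂.map_comp, Category.assoc]
    have hξ0 : can₀ (cmp.η.app W' ≫ RF.map (ξ ≫ (TStructure.t.truncGEπ (-d)).app Y)) = 0 :=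
      hzero.eq_of_tgt _ _
    obtain ⟨T4, hT4, h4⟩ := loc_inj₀ hP₂ _ hξ0
    refine K.transitive hT4 _ fun W'' g'' hg'' => ?_
    have h5 := cmp.η.naturality g''
    dsimp only [Functor.comp_map] at h5
    have h6 : cmp.η.app W'' ≫ RF.map ((singleFunctor A₁ 0).map (P₁.map (fn.map g'')) ≫
        ξ ≫ (TStructure.t.truncGEπ (-d)).app Y) = 0 := by
      rw [RF.map_comp, ← reassoc_of% h5]
      exact h4 g'' hg''
    obtain ⟨T5, hT5, h7⟩ := cmp.inj _ h6
    refine K.superset_covering (fun W₃ g₃ hg₃ => ?_) hT5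
    have h8 := cmp.η.naturality g₃
    dsimp only [Functor.comp_map] at h8
    refine ⟨(singleFunctor A₁ 0).map (P₁.map (fn.map g₃)) ≫ (singleFunctor A₁ 0).map (P₁.map (fn.map g'')) ≫ ξ,
      ?_, ?_⟩
    · rw [RF.map_comp, ← reassoc_of% h8, RF.map_comp, ← reassoc_of% h5, can₀_precomp, can₀_precomp, hs]
      simp only [P₂.map_comp, Category.assoc]
    · rw [Category.assoc, Category.assoc]
      exact h7 g₃ hg₃
  refine eq_zero_of_gen hP₂ T2 _ (hd T2 hT2) s' ?_
  rintro W g ⟨ξ, h1, h4⟩ hW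
  have hξ : ξ = 0 := by
    obtain ⟨ξ', hξ'⟩ : ∃ ξ' : (singleFunctor A₁ 0).obj (P₁.obj (fn.obj W)) ⟶ (TStructure.t.truncLT (-d)).obj Y,
        ξ = ξ' ≫ (TStructure.t.truncLTι (-d)).app Y :=
      Triangle.coyoneda_exact₂ _ (TStructure.t.triangleLTGE_distinguished (-d) Y) ξ h4
    obtain ⟨hprod, hlim⟩ := hR _ hlt
    have h5 : ((TStructure.t.truncLT (-d)).obj Y).IsLE (-d - 1) :=
      TStructure.t.isLE_truncLT_obj _ _ _ (by lia)
    have h7 := Van.hom_eq_zero_of_isLE₀.{w₁, w', u₁} (P₁.obj (fn.obj W)) _ hlim (-d - 1) d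
      (fun q k hk => hW _ (hlt q) k hk) (by lia) ξ'
    rw [hξ', h7, zero_comp]
  rw [← h1, hξ, RF.map_zero, comp_zero, can₀_zero]

include hP₂ cmp in
/-- `H^j(RF Y) = 0` for `j > a + N` if `Y` is in `D^{≤ a}` with cohomology in `S`. -/
theorem isZero_homology (N : ℤ)
    (hR : ∀ Y, WSerre.cohIn S Y → ∃ _ : HasProduct (CohCx.truncTower Y),
      CohCx.IsRlimVia (CohCx.truncTower Y) (CohCx.truncTowerMap Y) Y (CohCx.toTruncTower Y))
    (h3 : ∀ M, S M → ∀ p : ℤ, N < p →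
      IsZero ((homologyFunctor A₂ p).obj (RF.obj ((singleFunctor A₁ 0).obj M))))
    (B' : D → Prop) (hB' : ∀ U : D, gen (⊤ : Sieve U) B' ∈ K U)
    (h2 : ∀ V, B' V → ∃ d : ℤ, ∀ T ∈ K V, gen T (fun W => ∀ M, S M → ∀ k : ℕ, d < k →
      Subsingleton (Abelian.Ext.{w'} (P₁.obj (fn.obj W)) M k)) ∈ K V)
    (Y : DerivedCategory A₁) (hY : WSerre.cohIn S Y) (a : ℤ) [ha : Y.IsLE a] (j : ℤ) (hj : a + N < j) :
    IsZero ((homologyFunctor A₂ j).obj (RF.obj Y)) := by
  have h1 : (Y⟦j⟧).IsLE (a - j) := TStructure.t.isLE_shift _ a j (a - j) (by lia)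
  have h4 := isZero_H0.{w₁, w₂, w'} hP₂ cmp S N hR h3 B' hB' h2 (Y⟦j⟧) (CohDev.cohIn_shift S Y j hY)
    (a - j) (by lia)
  exact h4.of_iso ((((homologyFunctor A₂ 0).shiftIso j 0 j (by lia)).app _).symm ≪≫
    (homologyFunctor A₂ 0).mapIso ((RF.commShiftIso j).symm.app _))

include hP₂ cmp in
/-- `H^j(RF X) ⟶ H^j(RF (τ_{≥ -n} X))` is an isomorphism for `j ≥ N - n` if `X` has cohomology in `S`. -/
theorem isIso_homology_truncGEπ (N : ℤ)
    (hR : ∀ Y, WSerre.cohIn S Y → ∃ _ : HasProduct (CohCx.truncTower Y),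
      CohCx.IsRlimVia (CohCx.truncTower Y) (CohCx.truncTowerMap Y) Y (CohCx.toTruncTower Y))
    (h3 : ∀ M, S M → ∀ p : ℤ, N < p →
      IsZero ((homologyFunctor A₂ p).obj (RF.obj ((singleFunctor A₁ 0).obj M))))
    (B' : D → Prop) (hB' : ∀ U : D, gen (⊤ : Sieve U) B' ∈ K U)
    (h2 : ∀ V, B' V → ∃ d : ℤ, ∀ T ∈ K V, gen T (fun W => ∀ M, S M → ∀ k : ℕ, d < k →
      Subsingleton (Abelian.Ext.{w'} (P₁.obj (fn.obj W)) M k)) ∈ K V)
    (X : DerivedCategory A₁) (hX : WSerre.cohIn S X) (m j : ℤ) (hj : m + N ≤ j) :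
    IsIso ((homologyFunctor A₂ j).map (RF.map ((TStructure.t.truncGEπ m).app X))) := by
  have hlt : WSerre.cohIn S ((TStructure.t.truncLT m).obj X) := by
    intro i
    by_cases hi : i < m
    · have := DTrunc.isIso_homology_map_truncLTι X m i hi
      exact S.prop_of_iso (asIso ((homologyFunctor A₁ i).map ((TStructure.t.truncLTι m).app X))).symm (hX i)
    · have h5 : ((TStructure.t.truncLT m).obj X).IsLE (m - 1) :=
        TStructure.t.isLE_truncLT_obj _ _ _ (by lia)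
      exact S.prop_of_isZero (isZero_of_isLE _ (m - 1) i (by lia))
  have h5 : ((TStructure.t.truncLT m).obj X).IsLE (m - 1) :=
    TStructure.t.isLE_truncLT_obj _ _ _ (by lia)
  have h6 := isZero_homology.{w₁, w₂, w'} hP₂ cmp S N hR h3 B' hB' h2 ((TStructure.t.truncLT m).obj X) hlt (m - 1)
  exact K578.AdjDev.isIso_homology_map_mor₂ RF _ (TStructure.t.triangleLTGE_distinguished m X) j
    (h6 j (by lia)) (h6 (j + 1) (by lia))

end K578.Bound
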