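import Groth.Agent.CohtopB.TestSysSheaf
import Groth.Agent.CohtopA.ModExtUnit
import Groth.Agent.S0484
import Mathlib.Algebra.Category.ModuleCat.Presheaf.Generator

/-!
# Free modules on the objects of a ringed site form a test system

`PM R : C ⥤ SheafOfModules R`, `U ↦` the sheafified free module on `h_U`, with
`homEq : (PM R U ⟶ F) ≃ F(U)`; `TestSystem J (PM R)`.
-/

set_option autoImplicit false
universe w w' u

open CategoryTheory CategoryTheory.Limits Opposite

namespace K578.ModTest

open Groth.Agent.CohtopB

variable {C : Type u} [SmallCategory C] {J : GrothendieckTopology C} (R : Sheaf J RingCat.{u})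

/-- `U ↦` the sheafified free module on `h_U`. -/
noncomputable abbrev PM : C ⥤ SheafOfModules.{u} R :=
  yoneda ⋙ PresheafOfModules.free R.obj ⋙ PresheafOfModules.sheafification (𝟙 R.obj)

/-- The presheaf of modules underlying a sheaf of modules. -/
noncomputable abbrev under (F : SheafOfModules.{u} R) : PresheafOfModules.{u} R.obj :=
  (SheafOfModules.forget R ⋙ PresheafOfModules.restrictScalars (𝟙 R.obj)).obj F

/-- The bijection `Hom(PM_U, F) = Hom(free h_U, F)`. -/
noncomputable def adjEq (U : C) (F : SheafOfModules.{u} R) :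
    ((PM R).obj U ⟶ F) ≃ ((PresheafOfModules.free R.obj).obj (yoneda.obj U) ⟶ under R F) :=
  (PresheafOfModules.sheafificationAdjunction (𝟙 R.obj)).homEquiv _ _

/-- The bijection `Hom(PM_U, F) = F(U)`. -/
noncomputable def homEq (U : C) (F : SheafOfModules.{u} R) :
    ((PM R).obj U ⟶ F) ≃ F.val.obj (op U) :=
  (adjEq R U F).trans (PresheafOfModules.freeYonedaEquiv (M := under R F))

/-- The generator. -/
noncomputable def gen (U : C) : ((PM R).obj U).val.obj (op U) := homEq R U _ (𝟙 _)

variable {R}

lemma adjEq_comp {U : C} {F G : SheafOfModules.{u} R} (f : (PM R).obj U ⟶ F) (g : F ⟶ G) :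
    adjEq R U G (f ≫ g) = adjEq R U F f ≫
      (SheafOfModules.forget R ⋙ PresheafOfModules.restrictScalars (𝟙 R.obj)).map g :=
  (PresheafOfModules.sheafificationAdjunction (𝟙 R.obj)).homEquiv_naturality_right f g

lemma adjEq_map {U V : C} (h : V ⟶ U) {F : SheafOfModules.{u} R} (f : (PM R).obj U ⟶ F) :
    adjEq R V F ((PM R).map h ≫ f) = (PresheafOfModules.free R.obj).map (yoneda.map h) ≫ adjEq R U F f :=
  (PresheafOfModules.sheafificationAdjunction (𝟙 R.obj)).homEquiv_naturality_left _ f

lemma homEq_comp {U : C} {F G : SheafOfModules.{u} R} (f : (PM R).obj U ⟶ F) (g : F ⟶ G) :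
    homEq R U G (f ≫ g) = g.val.app (op U) (homEq R U F f) := by
  change PresheafOfModules.freeYonedaEquiv (adjEq R U G (f ≫ g)) = _
  rw [adjEq_comp]
  rfl

lemma homEq_apply {U : C} {F : SheafOfModules.{u} R} (f : (PM R).obj U ⟶ F) :
    homEq R U F f = f.val.app (op U) (gen R U) := by
  have := homEq_comp (𝟙 ((PM R).obj U)) f
  rw [Category.id_comp] at this
  exact this

lemma freeYonedaEquiv_map {R : Cᵒᵖ ⥤ RingCat.{u}} {U V : C} (h : V ⟶ U) {M : PresheafOfModules.{u} R}
    (f : (PresheafOfModules.free R).obj (yoneda.obj U) ⟶ M) :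
    PresheafOfModules.freeYonedaEquiv ((PresheafOfModules.free R).map (yoneda.map h) ≫ f) =
      M.map h.op (PresheafOfModules.freeYonedaEquiv f) := by
  have h5 := (PresheafOfModules.freeAdjunction R).homEquiv_naturality_left (yoneda.map h) (g := f)
  rw [PresheafOfModules.freeAdjunction_homEquiv, PresheafOfModules.freeAdjunction_homEquiv] at h5
  refine (congrArg yonedaEquiv h5).trans ?_
  exact (yonedaEquiv_naturality (PresheafOfModules.freeHomEquiv f) h).symm

lemma homEq_map {U V : C} (h : V ⟶ U) {F : SheafOfModules.{u} R} (f : (PM R).obj U ⟶ F) :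
    homEq R V F ((PM R).map h ≫ f) = F.val.map h.op (homEq R U F f) := by
  change PresheafOfModules.freeYonedaEquiv (adjEq R V F ((PM R).map h ≫ f)) = _
  rw [adjEq_map, freeYonedaEquiv_map]
  rfl

/-- `homEq` as an additive map. -/
lemma homEq_add {U : C} {F : SheafOfModules.{u} R} (f g : (PM R).obj U ⟶ F) :
    homEq R U F (f + g) = homEq R U F f + homEq R U F g := by
  rw [homEq_apply, homEq_apply, homEq_apply]
  rfl

lemma homEq_zero {U : C} {F : SheafOfModules.{u} R} :
    homEq R U F (0 : (PM R).obj U ⟶ F) = 0 := by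
  have h := homEq_add (0 : (PM R).obj U ⟶ F) 0
  rw [add_zero] at h
  exact left_eq_add.1 h

variable (R)

/-- The free modules on the objects of the site form a test system. -/
theorem testSystem : TestSystem J (PM R) where
  joint_epi {U} T hT {F} x hx := by
    apply (homEq R U F).injective
    rw [homEq_zero]
    refine TestSystem.section_eq_zero ((SheafOfModules.toSheaf R).obj F) hT (homEq R U F x) fun W g hg => ?_
    refine (homEq_map g x).symm.trans ?_
    rw [hx g hg, homEq_zero]
    rfl
  lift {U F} φ hφ := by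
    have := Groth.Agent.CohtopA.ModExt.toSheaf_preservesFiniteColimits R
    have hφ' : Epi ((SheafOfModules.toSheaf R).map φ) := inferInstance
    have hs : Sheaf.IsLocallySurjective ((SheafOfModules.toSheaf R).map φ) :=
      (Sheaf.isLocallySurjective_iff_epi' AddCommGrpCat.{u} _).2 hφ'
    refine ⟨_, hs.imageSieve_mem (gen R U), fun {V} g hg => ?_⟩
    obtain ⟨s, hs⟩ := hg
    obtain ⟨y, hy⟩ := (homEq R V F).surjective s
    refine ⟨y, (homEq R _ _).injective ?_⟩
    rw [homEq_comp, hy]
    refine hs.trans ?_
    have := homEq_map g (𝟙 ((PM R).obj U))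
    rw [Category.comp_id] at this
    exact this.symm
  isZero F h := by
    have : IsZero ((SheafOfModules.toSheaf R).obj F) := by
      refine TestSystem.isZero_of_sections _ fun U s => ?_
      obtain ⟨x, hx⟩ := (homEq R U F).surjective s
      rw [← hx, h U x, homEq_zero]
      rfl
    rw [IsZero.iff_id_eq_zero] at this ⊢
    apply (SheafOfModules.toSheaf R).map_injective
    rw [CategoryTheory.Functor.map_id, this, Functor.map_zero]

end K578.ModTest
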