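import Groth.Agent.SiteCmp.K578.CohDev
import Groth.Agent.CohtopB.DTrunc

/-!
# Equivalences on unbounded derived categories from a bound for the right adjoint
-/

set_option autoImplicit false

universe w w' v v' u u'

open CategoryTheory CategoryTheory.Limits Pretriangulated Triangulated DerivedCategory

namespace K578.CoreEq

open K578.AdjDev K578.CohDev Groth.Agent.CohtopB

variable {A : Type u} [Category.{v} A] [Abelian A] [HasDerivedCategory.{w} A]
  {B : Type u'} [Category.{v'} B] [Abelian B] [HasDerivedCategory.{w'} B]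

section Trunc

variable (P : ObjectProperty A) [WSerre.IsWeakSerre P]

lemma cohIn_truncGE (X : DerivedCategory A) (hX : WSerre.cohIn P X) (m : ℤ) :
    WSerre.cohIn P ((TStructure.t.truncGE m).obj X) := by
  intro i
  by_cases hi : m ≤ i
  · have := DTrunc.isIso_homology_map_truncGEπ X m i hi
    exact P.prop_of_iso (asIso ((homologyFunctor A i).map ((TStructure.t.truncGEπ m).app X))) (hX i)
  · have h5 : ((TStructure.t.truncGE m).obj X).IsGE m := TStructure.t.isGE_truncGE_obj _ _ _ le_rfl
    exact P.prop_of_isZero (isZero_of_isGE _ m i (by lia))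

lemma cohIn_truncLT (X : DerivedCategory A) (hX : WSerre.cohIn P X) (m : ℤ) :
    WSerre.cohIn P ((TStructure.t.truncLT m).obj X) := by
  intro i
  by_cases hi : i < m
  · have := DTrunc.isIso_homology_map_truncLTι X m i hi
    exact P.prop_of_iso (asIso ((homologyFunctor A i).map ((TStructure.t.truncLTι m).app X))).symm (hX i)
  · have h5 : ((TStructure.t.truncLT m).obj X).IsLE (m - 1) :=
      TStructure.t.isLE_truncLT_obj _ _ _ (by lia)
    exact P.prop_of_isZero (isZero_of_isLE _ (m - 1) i (by lia))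

lemma cohInPlus_truncGE (X : DerivedCategory A) (hX : WSerre.cohIn P X) (m : ℤ) :
    WSerre.cohInPlus P ((TStructure.t.truncGE m).obj X) :=
  ⟨cohIn_truncGE P X hX m, m, ⟨(TStructure.t.isGE_truncGE_obj _ _ _ le_rfl : TStructure.t.IsGE _ m).ge⟩⟩

end Trunc

/-- Vanishing from the bound on truncations. -/
lemma isZero_of_trunc (P : ObjectProperty A) (G : DerivedCategory A ⥤ DerivedCategory B)
    [G.PreservesZeroMorphisms]
    (hT : ∀ X, WSerre.cohIn P X → ∀ (n : ℕ) (j : ℤ), -(n : ℤ) ≤ j →
      IsIso ((homologyFunctor B j).map (G.map ((TStructure.t.truncGEπ (-(n : ℤ))).app X))))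
    (Z : DerivedCategory A) (hZ : WSerre.cohIn P Z) (n : ℕ) [hZ' : Z.IsLE (-(n : ℤ) - 1)] (j : ℤ)
    (hj : -(n : ℤ) ≤ j) : IsZero ((homologyFunctor B j).obj (G.obj Z)) := by
  have h1 := hT Z hZ n j hj
  have h2 : IsZero ((TStructure.t.truncGE (-(n : ℤ))).obj Z) :=
    TStructure.t.isZero_truncGE_obj_of_isLE (-(n : ℤ) - 1) _ (by lia) Z
  exact ((homologyFunctor B j).map_isZero (G.map_isZero h2)).of_iso
    (asIso ((homologyFunctor B j).map (G.map ((TStructure.t.truncGEπ (-(n : ℤ))).app Z))))

variable (F : B ⥤ A) [F.Additive] [PreservesFiniteLimits F] [PreservesFiniteColimits F]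
  {G : DerivedCategory A ⥤ DerivedCategory B} (adj : F.mapDerivedCategory ⊣ G)
  (P : ObjectProperty A) [WSerre.IsWeakSerre P] (P' : ObjectProperty B) [WSerre.IsWeakSerre P']
  (h2a : ∀ M : B, P' M → P (F.obj M))
  (h2c : ∀ M : A, P M → ∃ M' : B, P' M' ∧ Nonempty (F.obj M' ≅ M))
  (h3 : ∀ M : B, P' M → IsIso (adj.unit.app ((singleFunctor B 0).obj M)))
  (hT : ∀ X, WSerre.cohIn P X → ∀ (n : ℕ) (j : ℤ), -(n : ℤ) ≤ j →
      IsIso ((homologyFunctor B j).map (G.map ((TStructure.t.truncGEπ (-(n : ℤ))).app X))))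

include h2a h2c h3 hT in
theorem equiv_of_trunc :
    (∀ Y : DerivedCategory B, WSerre.cohIn P' Y →
      WSerre.cohIn P (F.mapDerivedCategory.obj Y) ∧ IsIso (adj.unit.app Y)) ∧
    (∀ X : DerivedCategory A, WSerre.cohIn P X →
      WSerre.cohIn P' (G.obj X) ∧ IsIso (adj.counit.app X)) := by
  have hplus := equivPlus F adj P P' h2a h2c h3
  let _ := adj.rightAdjointCommShift ℤ
  have := adj.commShift_of_leftAdjoint ℤ
  have := adj.isTriangulated_rightAdjoint
  refine ⟨fun Y hY => ⟨cohIn_mapDer F P P' h2a Y hY, ?_⟩, fun X hX => ⟨fun j => ?_, ?_⟩⟩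
  · rw [DerivedCategory.isIso_iff]
    intro j
    obtain ⟨n, hn⟩ : ∃ n : ℕ, -(n : ℤ) ≤ j := ⟨(-j).toNat, by omega⟩
    let π := (TStructure.t.truncGEπ (-(n : ℤ))).app Y
    have h1 : IsIso (adj.unit.app ((TStructure.t.truncGE (-(n : ℤ))).obj Y)) :=
      (hplus.1 _ (cohInPlus_truncGE P' Y hY _)).2
    have h4 : IsIso ((homologyFunctor B j).map π) := DTrunc.isIso_homology_map_truncGEπ Y (-(n : ℤ)) j hn
    have h5 : IsIso ((homologyFunctor B j).map ((F.mapDerivedCategory ⋙ G).map π)) := by
      have hlt : ((TStructure.t.truncLT (-(n : ℤ))).obj Y).IsLE (-(n : ℤ) - 1) :=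
        TStructure.t.isLE_truncLT_obj _ _ _ (by lia)
      have hlt' : (F.mapDerivedCategory.obj ((TStructure.t.truncLT (-(n : ℤ))).obj Y)).IsLE (-(n : ℤ) - 1) :=
        Groth.Agent.Dcoh.MapDer.isLE_map F _ _
      have hc := cohIn_mapDer F P P' h2a _ (cohIn_truncLT P' Y hY (-(n : ℤ)))
      exact isIso_homology_map_mor₂ (F.mapDerivedCategory ⋙ G) _
        (TStructure.t.triangleLTGE_distinguished (-(n : ℤ)) Y) j
        (isZero_of_trunc P G hT _ hc n j hn) (isZero_of_trunc P G hT _ hc n (j + 1) (by lia))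
    have h6 : (homologyFunctor B j).map (adj.unit.app Y) ≫
        (homologyFunctor B j).map ((F.mapDerivedCategory ⋙ G).map π) =
        (homologyFunctor B j).map π ≫ (homologyFunctor B j).map
          (adj.unit.app ((TStructure.t.truncGE (-(n : ℤ))).obj Y)) := by
      rw [← Functor.map_comp, ← Functor.map_comp]
      exact congrArg _ (adj.unit.naturality π).symm
    have h7 : IsIso ((homologyFunctor B j).map (adj.unit.app Y) ≫
        (homologyFunctor B j).map ((F.mapDerivedCategory ⋙ G).map π)) := by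
      rw [h6]
      infer_instance
    exact IsIso.of_isIso_comp_right _ ((homologyFunctor B j).map ((F.mapDerivedCategory ⋙ G).map π))
  · obtain ⟨n, hn⟩ : ∃ n : ℕ, -(n : ℤ) ≤ j := ⟨(-j).toNat, by omega⟩
    have h1 := (hplus.2 _ (cohInPlus_truncGE P X hX (-(n : ℤ)))).1.1 j
    have h4 := hT X hX n j hn
    exact P'.prop_of_iso (asIso ((homologyFunctor B j).map
      (G.map ((TStructure.t.truncGEπ (-(n : ℤ))).app X)))).symm h1
  · rw [DerivedCategory.isIso_iff]
    intro j
    obtain ⟨n, hn⟩ : ∃ n : ℕ, -(n : ℤ) ≤ j := ⟨(-j).toNat, by omega⟩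
    let π := (TStructure.t.truncGEπ (-(n : ℤ))).app X
    have h1 : IsIso (adj.counit.app ((TStructure.t.truncGE (-(n : ℤ))).obj X)) :=
      (hplus.2 _ (cohInPlus_truncGE P X hX _)).2
    have h4 : IsIso ((homologyFunctor A j).map π) := DTrunc.isIso_homology_map_truncGEπ X (-(n : ℤ)) j hn
    have h5 : IsIso ((homologyFunctor A j).map ((G ⋙ F.mapDerivedCategory).map π)) := by
      have h8 := hT X hX n j hn
      exact (Groth.Agent.Dcoh.MapDer.isIso_homology_map_iff F _ j).2 inferInstance
    have h6 : (homologyFunctor A j).map ((G ⋙ F.mapDerivedCategory).map π) ≫ (homologyFunctor A j).map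
          (adj.counit.app ((TStructure.t.truncGE (-(n : ℤ))).obj X)) =
        (homologyFunctor A j).map (adj.counit.app X) ≫ (homologyFunctor A j).map π := by
      rw [← Functor.map_comp, ← Functor.map_comp]
      exact congrArg _ (adj.counit.naturality π)
    have h7 : IsIso ((homologyFunctor A j).map (adj.counit.app X) ≫ (homologyFunctor A j).map π) := by
      rw [← h6]
      infer_instance
    exact IsIso.of_isIso_comp_right _ ((homologyFunctor A j).map π)

end K578.CoreEq
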