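import Groth.Agent.SiteCmp.K578.LerayPush
import Groth.Agent.SiteCmp.K578.Upstairs
import Groth.Agent.SiteCmp.K578.CoreEq

/-!
# Truncations and `Rf_*` for objects with cohomology in a weak Serre class (hypotheses downstairs)
-/

set_option autoImplicit false
universe w' u

open CategoryTheory CategoryTheory.Limits Opposite DerivedCategory

attribute [local instance] HasDerivedCategory.standard

namespace K578.Downstairs

open Groth.Agent.CohtopB Groth.Agent.CohtopB.TestSys K578.ModTest K578.PushComp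

variable {C : Type u} [SmallCategory C] {J : GrothendieckTopology C} {O_C : Sheaf J CommRingCat.{u}}
    {D : Type u} [SmallCategory D] {K : GrothendieckTopology D} {O_D : Sheaf K CommRingCat.{u}}
    (f : ModSite.RMor O_C O_D) [HasInjectiveResolutions (ModSite.Mod O_C)] [SiteCmp.HasRpushD f]
    (A : ObjectProperty (ModSite.Mod O_C)) [WSerre.IsWeakSerre A]
    (A' : ObjectProperty (ModSite.Mod O_D)) [WSerre.IsWeakSerre A']

omit [WSerre.IsWeakSerre A] in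
/-- `Rf_* F ∈ D_{A'}` for `F ∈ A`. -/
lemma cohIn_single (h3 : ∀ F : ModSite.Mod O_C, A F → ∀ p : ℕ, A' ((f.Rpush p).obj F))
    (F : ModSite.Mod O_C) (hF : A F) :
    WSerre.cohIn A' ((SiteCmp.RpushD f).obj ((singleFunctor (ModSite.Mod O_C) 0).obj F)) := by
  intro p
  rcases lt_or_ge p 0 with h0 | h0
  · exact A'.prop_of_isZero (K578.RpushSingle.isZero_homologySingle f F p h0)
  · obtain ⟨n, rfl⟩ := Int.eq_ofNat_of_zero_le h0
    exact A'.prop_of_iso (K578.RpushSingle.homologySingle f F n).symm (h3 F hF n)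

omit [WSerre.IsWeakSerre A] in
/-- The hypothesis on `D` with cohomology of `A'` gives the hypothesis upstairs. -/
lemma hyp_upstairs [HasExt.{w'} (ModSite.Mod O_C)] (B' : Set D)
    (hA' : ∀ V ∈ B', ∃ d : ℕ, ∀ T ∈ K V, ∃ (ι : Type u) (Y : ι → D) (g : ∀ i, Y i ⟶ V),
      (∀ i, T.arrows (g i)) ∧ Sieve.ofArrows Y g ∈ K V ∧
      ∀ (i : ι) (F : ModSite.Mod O_D), A' F → ∀ k : ℕ, d < k → Subsingleton (ModSite.HU O_D F k (Y i)))
    (N : ℤ)
    (h3 : ∀ F : ModSite.Mod O_C, A F → ∀ p : ℕ, A' ((f.Rpush p).obj F))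
    (h4 : ∀ F : ModSite.Mod O_C, A F → ∀ p : ℕ, N < (p : ℤ) → IsZero ((f.Rpush p).obj F)) :
    ∀ V, V ∈ B' → ∃ d : ℤ, ∀ T ∈ K V, gen T (fun W => ∀ M, A M → ∀ k : ℕ, d < k →
      Subsingleton (Abelian.Ext.{w'} ((PM (ModSite.ringSh O_C)).obj (f.fn.obj W)) M k)) ∈ K V := by
  have : HasExt.{u + 1} (ModSite.Mod O_D) := HasExt.standard _
  intro V hV
  obtain ⟨d, hd⟩ := K578.Hyp.gen_of_hA O_D A' B' id hA' V hV
  refine ⟨N + d, fun T hT => ?_⟩
  refine K.superset_covering (gen_mono T fun W hW M hM k hk => ?_) (hd T hT)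
  exact K578.LerayPush.subsingleton_ext_of_bound f M W N d
    (fun p hp => K578.RpushSingle.isZero_homologySingle' f M N (h4 M hM) p hp)
    (fun q k hk => hW _ (cohIn_single f A A' h3 M hM q) k hk) k hk

variable (B : Set C) (B' : Set D)
    (hB : ∀ U : C, ∃ (ι : Type u) (Y : ι → C) (g : ∀ i, Y i ⟶ U), Sieve.ofArrows Y g ∈ J U ∧ ∀ i, Y i ∈ B)
    (hA : ∀ V ∈ B, ∃ d : ℕ, ∀ T ∈ J V, ∃ (ι : Type u) (Y : ι → C) (g : ∀ i, Y i ⟶ V),
      (∀ i, T.arrows (g i)) ∧ Sieve.ofArrows Y g ∈ J V ∧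
      ∀ (i : ι) (F : ModSite.Mod O_C), A F → ∀ k : ℕ, d < k → Subsingleton (ModSite.HU O_C F k (Y i)))
    (hB' : ∀ U : D, ∃ (ι : Type u) (Y : ι → D) (g : ∀ i, Y i ⟶ U), Sieve.ofArrows Y g ∈ K U ∧ ∀ i, Y i ∈ B')
    (hA' : ∀ V ∈ B', ∃ d : ℕ, ∀ T ∈ K V, ∃ (ι : Type u) (Y : ι → D) (g : ∀ i, Y i ⟶ V),
      (∀ i, T.arrows (g i)) ∧ Sieve.ofArrows Y g ∈ K V ∧
      ∀ (i : ι) (F : ModSite.Mod O_D), A' F → ∀ k : ℕ, d < k → Subsingleton (ModSite.HU O_D F k (Y i)))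
    (N : ℤ)
    (h3 : ∀ F : ModSite.Mod O_C, A F → ∀ p : ℕ, A' ((f.Rpush p).obj F))
    (h4 : ∀ F : ModSite.Mod O_C, A F → ∀ p : ℕ, N < (p : ℤ) → IsZero ((f.Rpush p).obj F))
    (X : DerivedCategory (ModSite.Mod O_C)) (hX : WSerre.cohIn A X)

include hB hA hB' hA' h3 h4 hX

theorem isIso_homology_truncGEπ (n : ℕ) (j : ℤ) (hj : N - (n : ℤ) ≤ j) :
    IsIso ((DerivedCategory.homologyFunctor (ModSite.Mod O_D) j).map
      ((SiteCmp.RpushD f).map ((DerivedCategory.TStructure.t.truncGEπ (-(n : ℤ))).app X))) := by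
  have : HasExt.{u + 1} (ModSite.Mod O_C) := HasExt.standard _
  exact K578.Upstairs.isIso_homology_truncGEπ f A B B' hB hA hB' (hyp_upstairs f A A' B' hA' N h3 h4) N h4
    X hX n j hj

theorem cohIn_Rpush : WSerre.cohIn A' ((SiteCmp.RpushD f).obj X) := by
  intro j
  let _ := K578.Der.rpushCommShift f
  have := K578.Der.rpush_isTriangulated f
  obtain ⟨n, hn⟩ : ∃ n : ℕ, N - (n : ℤ) ≤ j := ⟨(N - j).toNat, by omega⟩
  have h1 := isIso_homology_truncGEπ f A A' B B' hB hA hB' hA' N h3 h4 X hX n j hn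
  have h2 : ((TStructure.t.truncGE (-(n : ℤ))).obj X).IsGE (-(n : ℤ)) :=
    TStructure.t.isGE_truncGE_obj _ _ _ le_rfl
  have h5 := K578.CohDev.cohIn_map_of_isGE A' (SiteCmp.RpushD f) (K578.RpushSingle.lte f)
    ((TStructure.t.truncGE (-(n : ℤ))).obj X) (-(n : ℤ))
    (fun q => cohIn_single f A A' h3 _ (K578.CoreEq.cohIn_truncGE A X hX _ q)) j
  exact A'.prop_of_iso (asIso ((DerivedCategory.homologyFunctor (ModSite.Mod O_D) j).map
      ((SiteCmp.RpushD f).map ((DerivedCategory.TStructure.t.truncGEπ (-(n : ℤ))).app X)))).symm h5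

end K578.Downstairs
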