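import Groth.Prelude.Def_WeakSerre
import Mathlib.CategoryTheory.Abelian.Exact
import Mathlib.Algebra.Homology.ShortComplex.ShortExact
import Mathlib.Algebra.Homology.ShortComplex.PreservesHomology

/-!
# The image of a weak Serre class under a fully faithful right adjoint with exact left adjoint
-/

set_option autoImplicit false
universe v v' u u'

open CategoryTheory CategoryTheory.Limits

namespace K578.MapSerre

section Criteria

variable {A : Type u} [Category.{v} A] [Abelian A] (Q : ObjectProperty A) [Q.IsClosedUnderIsomorphisms]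

lemma isClosedUnderKernels (h : ∀ {X Y : A} (f : X ⟶ Y), Q X → Q Y → Q (kernel f)) : Q.IsClosedUnderKernels where
  kernels_le := by
    rintro _ ⟨f, k, hk, ⟨hX, hY⟩⟩
    exact Q.prop_of_iso (IsLimit.conePointUniqueUpToIso (limit.isLimit _) hk) (h f hX hY)

lemma isClosedUnderCokernels (h : ∀ {X Y : A} (f : X ⟶ Y), Q X → Q Y → Q (cokernel f)) :
    Q.IsClosedUnderCokernels where
  cokernels_le := by
    rintro _ ⟨f, k, hk, ⟨hX, hY⟩⟩
    exact Q.prop_of_iso (IsColimit.coconePointUniqueUpToIso (colimit.isColimit _) hk) (h f hX hY)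

end Criteria

variable {A : Type u} [Category.{v} A] [Abelian A] {B : Type u'} [Category.{v'} B] [Abelian B]
  {L : B ⥤ A} {R : A ⥤ B} (adj : L ⊣ R) [R.Full] [R.Faithful] [R.Additive] [L.Additive]
  [PreservesFiniteLimits L] (P : ObjectProperty A) [WSerre.IsWeakSerre P]
  (hR : ∀ S : ShortComplex A, S.ShortExact → P S.X₁ → Epi (R.map S.g))

include adj hR

omit [R.Full] [R.Faithful] [L.Additive] [PreservesFiniteLimits L] [WSerre.IsWeakSerre P] in
lemma shortExact_map (S : ShortComplex A) (hS : S.ShortExact) (h₁ : P S.X₁) : (S.map R).ShortExact := by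
  have := adj.rightAdjoint_preservesLimits
  have hf := hS.mono_f
  have h2 : (S.map R).Exact := hS.exact.map_of_mono_of_preservesKernel R inferInstance inferInstance
  have h3 : Mono (S.map R).f := inferInstanceAs (Mono (R.map S.f))
  have h4 : Epi (S.map R).g := hR S hS h₁
  exact ⟨h2⟩

omit [R.Full] [R.Faithful] [L.Additive] [PreservesFiniteLimits L] in
lemma exact_map_cokernel {M N : A} (ψ : M ⟶ N) (hM : P M) (hN : P N) :
    Nonempty (cokernel (R.map ψ) ≅ R.obj (cokernel ψ)) := by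
  let S₁ : ShortComplex A := ShortComplex.mk (kernel.ι ψ) (Abelian.factorThruImage ψ) (by
    rw [← cancel_mono (Abelian.image.ι ψ), Category.assoc, Abelian.image.fac, kernel.condition, zero_comp])
  let S₂ : ShortComplex A := ShortComplex.mk (Abelian.image.ι ψ) (cokernel.π ψ) (kernel.condition _)
  have hS₁ : S₁.ShortExact := by
    have : Mono S₁.f := inferInstanceAs (Mono (kernel.ι ψ))
    have : Epi S₁.g := inferInstanceAs (Epi (Abelian.factorThruImage ψ))
    refine ⟨ShortComplex.exact_of_f_is_kernel _ ?_⟩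
    refine KernelFork.IsLimit.ofι' _ _ fun {A'} k hk => ⟨kernel.lift ψ k ?_, kernel.lift_ι _ _ _⟩
    have hk' : k ≫ Abelian.factorThruImage ψ = 0 := hk
    rw [← Abelian.image.fac ψ, reassoc_of% hk', zero_comp]
  have hS₂ : S₂.ShortExact := by
    have : Mono S₂.f := inferInstanceAs (Mono (Abelian.image.ι ψ))
    have : Epi S₂.g := inferInstanceAs (Epi (cokernel.π ψ))
    exact ⟨ShortComplex.exact_of_f_is_kernel _ (kernelIsKernel _)⟩
  have h1 : Epi (R.map (Abelian.factorThruImage ψ)) := hR S₁ hS₁ (P.prop_kernel ψ hM hN)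
  have h2 := shortExact_map adj P hR S₂ hS₂ (P.prop_kernel (cokernel.π ψ) hN (P.prop_cokernel ψ hM hN))
  have hw : R.map ψ ≫ R.map (cokernel.π ψ) = 0 := by
    rw [← R.map_comp, cokernel.condition, R.map_zero]
  let T : ShortComplex B := ShortComplex.mk (R.map ψ) (R.map (cokernel.π ψ)) hw
  have hw' : R.map (Abelian.image.ι ψ) ≫ R.map (cokernel.π ψ) = 0 := (S₂.map R).zero
  have h3 : Epi (kernel.lift (R.map (cokernel.π ψ)) (R.map (Abelian.image.ι ψ)) hw') :=
    ((S₂.map R).exact_iff_epi_kernel_lift).1 h2.exact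
  have hT : T.Exact := by
    rw [ShortComplex.exact_iff_epi_kernel_lift]
    have h4 : kernel.lift (R.map (cokernel.π ψ)) (R.map ψ) hw = R.map (Abelian.factorThruImage ψ) ≫
        kernel.lift (R.map (cokernel.π ψ)) (R.map (Abelian.image.ι ψ)) hw' := by
      rw [← cancel_mono (kernel.ι (R.map (cokernel.π ψ))), kernel.lift_ι, Category.assoc, kernel.lift_ι,
        ← R.map_comp, Abelian.image.fac]
    change Epi (kernel.lift (R.map (cokernel.π ψ)) (R.map ψ) hw)
    rw [h4]
    exact epi_comp _ _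
  have h5 : Epi T.g := h2.epi_g
  exact ⟨IsColimit.coconePointUniqueUpToIso (colimit.isColimit _) hT.gIsCokernel⟩

/-- The essential image of `P` under `R` is a weak Serre class. -/
theorem isWeakSerre_map : WSerre.IsWeakSerre (P.map R) := by
  have := adj.rightAdjoint_preservesLimits
  have := adj.leftAdjoint_preservesColimits
  have h1 : (P.map R).ContainsZero := by
    obtain ⟨Z, hZ, hPZ⟩ := P.exists_prop_of_containsZero
    exact ⟨⟨R.obj Z, R.map_isZero hZ, P.prop_map_obj R hPZ⟩⟩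
  have h2 : (P.map R).IsClosedUnderKernels := by
    refine isClosedUnderKernels _ fun {X Y} f hX hY => ?_
    obtain ⟨M, hM, ⟨e₁⟩⟩ := (P.prop_map_iff R X).1 hX
    obtain ⟨N, hN, ⟨e₂⟩⟩ := (P.prop_map_iff R Y).1 hY
    obtain ⟨ψ, hψ⟩ := R.map_surjective (e₁.hom ≫ f ≫ e₂.inv)
    refine (P.prop_map_iff R _).2 ⟨kernel ψ, P.prop_kernel ψ hM hN, ⟨?_⟩⟩
    exact PreservesKernel.iso R ψ ≪≫ kernel.mapIso (R.map ψ) f e₁ e₂ (by rw [hψ]; simp)
  have h3 : (P.map R).IsClosedUnderCokernels := by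
    refine isClosedUnderCokernels _ fun {X Y} f hX hY => ?_
    obtain ⟨M, hM, ⟨e₁⟩⟩ := (P.prop_map_iff R X).1 hX
    obtain ⟨N, hN, ⟨e₂⟩⟩ := (P.prop_map_iff R Y).1 hY
    obtain ⟨ψ, hψ⟩ := R.map_surjective (e₁.hom ≫ f ≫ e₂.inv)
    obtain ⟨e⟩ := exact_map_cokernel adj P hR ψ hM hN
    refine (P.prop_map_iff R _).2 ⟨cokernel ψ, P.prop_cokernel ψ hM hN, ⟨?_⟩⟩
    exact e.symm ≪≫ cokernel.mapIso (R.map ψ) f e₁ e₂ (by rw [hψ]; simp)
  have h4 : (P.map R).IsClosedUnderExtensions := by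
    refine ⟨fun {S} hS hX hY => ?_⟩
    obtain ⟨M, hM, ⟨e₁⟩⟩ := (P.prop_map_iff R _).1 hX
    obtain ⟨N, hN, ⟨e₂⟩⟩ := (P.prop_map_iff R _).1 hY
    have hc : IsIso adj.counit := inferInstance
    have hL : (S.map L).ShortExact := hS.map_of_exact L
    have hM' : P (L.obj S.X₁) := P.prop_of_iso ((asIso (adj.counit.app M)).symm ≪≫ L.mapIso e₁) hM
    have hN' : P (L.obj S.X₃) := P.prop_of_iso ((asIso (adj.counit.app N)).symm ≪≫ L.mapIso e₂) hN
    have hE : P (L.obj S.X₂) := P.prop_X₂_of_shortExact hL hM' hN'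
    have hRL := shortExact_map adj P hR (S.map L) hL hM'
    have u₁ : IsIso (adj.unit.app S.X₁) := by
      rw [← NatTrans.isIso_app_iff_of_iso adj.unit e₁]
      infer_instance
    have u₃ : IsIso (adj.unit.app S.X₃) := by
      rw [← NatTrans.isIso_app_iff_of_iso adj.unit e₂]
      infer_instance
    let φ : S ⟶ (S.map L).map R :=
      { τ₁ := adj.unit.app S.X₁
        τ₂ := adj.unit.app S.X₂
        τ₃ := adj.unit.app S.X₃
        comm₁₂ := (adj.unit.naturality S.f).symm
        comm₂₃ := (adj.unit.naturality S.g).symm }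
    have : IsIso φ.τ₁ := u₁
    have : IsIso φ.τ₃ := u₃
    have h5 : IsIso φ.τ₂ := ShortComplex.isIso₂_of_shortExact_of_isIso₁₃ φ hS hRL
    exact (P.prop_map_iff R _).2 ⟨L.obj S.X₂, hE, ⟨(@asIso _ _ _ _ (adj.unit.app S.X₂) h5).symm⟩⟩
  exact { }

end K578.MapSerre
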