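import Groth.Agent.SiteCmp.K578.EpsMod
import Groth.Agent.SiteCmp.K578.MapSerre
import Groth.Agent.SiteCmp.K578.Der

/-!
# `Rε_*` is fully faithful on unbounded derived categories of modules
-/

set_option autoImplicit false
universe w w' v v' u u'

open CategoryTheory CategoryTheory.Limits Opposite

namespace K578.EpsDer

section Abs

open Groth.Agent.Dcoh.DerAbs Groth.Agent.Dcoh.DerHo Groth.Agent.Dcoh.DerAdj Groth.Agent.Dcoh.DerComp

variable {A : Type u} [Category.{v} A] [Abelian A] [HasDerivedCategory.{w} A]
  {B : Type u'} [Category.{v'} B] [Abelian B] [HasDerivedCategory.{w'} B]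
  {F : A ⥤ B} {G : B ⥤ A} [F.Additive] [G.Additive] (adj : F ⊣ G)
  (hB : HasKInj B)
  {P : ObjectProperty (HomotopyCategory A (ComplexShape.up ℤ))}
  (hF : LeftData (𝟭 _) (HomotopyCategory.quasiIso A (ComplexShape.up ℤ))
      (F.mapHomotopyCategory (ComplexShape.up ℤ) ⋙ DerivedCategory.Qh) P)
  (LF : DerivedCategory A ⥤ DerivedCategory B)
  (α : DerivedCategory.Qh ⋙ LF ⟶ F.mapHomotopyCategory (ComplexShape.up ℤ) ⋙ DerivedCategory.Qh)
  [LF.IsLeftDerivedFunctor α (HomotopyCategory.quasiIso A (ComplexShape.up ℤ))]
  (RG : DerivedCategory B ⥤ DerivedCategory A)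
  (β : G.mapHomotopyCategory (ComplexShape.up ℤ) ⋙ DerivedCategory.Qh ⟶ DerivedCategory.Qh ⋙ RG)
  [RG.IsRightDerivedFunctor β (HomotopyCategory.quasiIso B (ComplexShape.up ℤ))]

/-- If the counit of `F ⊣ G` is an isomorphism and `F` is its own derived functor, then the counit of the
derived adjunction is an isomorphism. -/
theorem isIso_counit_derivedAdj (hc : ∀ M : B, IsIso (adj.counit.app M)) (hα : ∀ K, IsIso (α.app K))
    (X : DerivedCategory B) : IsIso ((derivedAdj adj hB hF LF α RG β).counit.app X) := by
  obtain ⟨I, i, hI, hi⟩ := hB (DerivedCategory.Q.objPreimage X)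
  have hi' := (DerivedCategory.isIso_Q_map_iff_quasiIso B i).2 hi
  let e : DerivedCategory.Qh.obj ((HomotopyCategory.quotient _ _).obj I) ≅ X :=
    (DerivedCategory.quotientCompQhIso B).app I ≪≫ (asIso (DerivedCategory.Q.map i)).symm ≪≫
      DerivedCategory.Q.objObjPreimageIso X
  rw [← NatTrans.isIso_app_iff_of_iso (derivedAdj adj hB hF LF α RG β).counit e]
  have h1 := derivedAdj_counit_fac adj hB hF LF α RG β ((HomotopyCategory.quotient _ _).obj I)
  have h2 : IsIso (β.app ((HomotopyCategory.quotient _ _).obj I)) := isIso_unit_app' hB RG β I hI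
  have h3 := hα ((G.mapHomotopyCategory (ComplexShape.up ℤ)).obj ((HomotopyCategory.quotient _ _).obj I))
  have h4 : IsIso ((adjHo adj (ComplexShape.up ℤ)).counit.app ((HomotopyCategory.quotient _ _).obj I)) := by
    have h5 : IsIso ((adjCx adj (ComplexShape.up ℤ)).counit.app I) := by
      have : ∀ n, IsIso (((adjCx adj (ComplexShape.up ℤ)).counit.app I).f n) := fun n => hc _
      exact HomologicalComplex.Hom.isIso_of_components _
    exact inferInstanceAs (IsIso ((HomotopyCategory.quotient B _).map
      ((adjCx adj (ComplexShape.up ℤ)).counit.app I)))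
  have h6 : IsIso (LF.map (β.app ((HomotopyCategory.quotient _ _).obj I)) ≫
      (derivedAdj adj hB hF LF α RG β).counit.app
        (DerivedCategory.Qh.obj ((HomotopyCategory.quotient _ _).obj I))) := by
    rw [h1]
    infer_instance
  exact IsIso.of_isIso_comp_left (LF.map (β.app ((HomotopyCategory.quotient _ _).obj I))) _

end Abs

section Adj

variable {A : Type u} [Category.{v} A] {B : Type u'} [Category.{v'} B] {L : A ⥤ B} {R : B ⥤ A}

/-- The counit being an isomorphism does not depend on the adjunction. -/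
theorem isIso_counit_of_adj (adj adj' : L ⊣ R) (h : ∀ X, IsIso (adj.counit.app X)) (X : B) :
    IsIso (adj'.counit.app X) := by
  have h1 : IsIso adj.counit := NatIso.isIso_of_isIso_app _
  have h2 := adj.fullyFaithfulROfIsIsoCounit
  have := h2.full
  have := h2.faithful
  infer_instance

/-- If the counit is an isomorphism, the unit is an isomorphism on objects of the form `R X`. -/
theorem isIso_unit_of_iso (adj : L ⊣ R) (h : ∀ X, IsIso (adj.counit.app X)) {Y : A} {X : B} (e : R.obj X ≅ Y) :
    IsIso (adj.unit.app Y) := by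
  rw [← NatTrans.isIso_app_iff_of_iso adj.unit e]
  have h1 := h X
  have h2 := adj.right_triangle_components X
  have h3 : IsIso (adj.unit.app (R.obj X) ≫ R.map (adj.counit.app X)) := by
    rw [h2]
    exact IsIso.id _
  exact IsIso.of_isIso_comp_right _ (R.map (adj.counit.app X))

end Adj

section Eps

attribute [local instance] HasDerivedCategory.standard

variable {C : Type u} [SmallCategory C] {J J' : GrothendieckTopology C} (h : J' ≤ J) (O : Sheaf J CommRingCat.{u})
    [PreservesFiniteLimits (SiteCmp.eps h O).pull] [SiteCmp.HasRpushD (SiteCmp.eps h O)]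
    (adj : SiteCmp.pullD (SiteCmp.eps h O) ⊣ SiteCmp.RpushD (SiteCmp.eps h O))

/-- The counit `ε^* Rε_* X ⟶ X` is an isomorphism for all `X`. -/
theorem isIso_counit (X : DerivedCategory (ModSite.Mod O)) : IsIso (adj.counit.app X) := by
  refine isIso_counit_of_adj (K578.Der.adjD (SiteCmp.eps h O)) adj (fun X => ?_) X
  refine isIso_counit_derivedAdj _ _ _ _ _ _ _ (fun M => ?_) (fun K => ?_) X
  · have := K578.EpsMod.full h O
    have := K578.EpsMod.faithful h O
    infer_instance
  · infer_instance

end Eps

end K578.EpsDer
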