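import Groth.Agent.SiteCmp.K578.TorsAbs
import Groth.Agent.SiteCmp.K578.EpsDer

/-!
# `D(P) ≃ D_P(A)` for a Serre class `P` "of torsion objects": derived part
-/

set_option autoImplicit false
universe w w' v u

open CategoryTheory CategoryTheory.Limits Opposite

namespace K578.TorsDer

open Groth.Agent.Dcoh.DerAbs Groth.Agent.Dcoh.DerHo Groth.Agent.Dcoh.DerAdj Groth.Agent.Dcoh.DerComp K578.TorsAbs

variable {A : Type u} [Category.{v} A] [Abelian A] [HasDerivedCategory.{w} A] (P : ObjectProperty A) [P.IsSerreClass]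
  [HasDerivedCategory.{w'} P.FullSubcategory]
  {R : A ⥤ P.FullSubcategory} [R.Additive] (adj : P.ι ⊣ R)
  (hA : HasKInj A)
  (RG : DerivedCategory A ⥤ DerivedCategory P.FullSubcategory)
  (β : R.mapHomotopyCategory (ComplexShape.up ℤ) ⋙ DerivedCategory.Qh ⟶ DerivedCategory.Qh ⋙ RG)
  [RG.IsRightDerivedFunctor β (HomotopyCategory.quasiIso A (ComplexShape.up ℤ))]

/-- The derived adjunction. -/
noncomputable def dadj : WSerre.toDerived P ⊣ RG :=
  haveI : (WSerre.toDerived P).IsLeftDerivedFunctor P.ι.mapDerivedCategoryFactorsh.hom (qis P.FullSubcategory) :=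
    isLeftDerivedFunctor_mapDerivedCategory _
  derivedAdj adj hA (leftDataExact P.ι) (WSerre.toDerived P) P.ι.mapDerivedCategoryFactorsh.hom RG β

/-- The counit is an isomorphism on a K-injective complex `I` if `ιR I ⟶ I` is a quasi-isomorphism. -/
lemma isIso_counit (I : CochainComplex A ℤ) (hI : I.IsKInjective) (h : QuasiIso (cI P adj I))
    {X : DerivedCategory A} (e : DerivedCategory.Q.obj I ≅ X) : IsIso ((dadj P adj hA RG β).counit.app X) := by
  have : (WSerre.toDerived P).IsLeftDerivedFunctor P.ι.mapDerivedCategoryFactorsh.hom (qis P.FullSubcategory) :=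
    isLeftDerivedFunctor_mapDerivedCategory _
  let e' : DerivedCategory.Qh.obj ((HomotopyCategory.quotient _ _).obj I) ≅ X :=
    (DerivedCategory.quotientCompQhIso A).app I ≪≫ e
  rw [← NatTrans.isIso_app_iff_of_iso (dadj P adj hA RG β).counit e']
  have h1 := derivedAdj_counit_fac adj hA (leftDataExact P.ι) (WSerre.toDerived P)
    P.ι.mapDerivedCategoryFactorsh.hom RG β ((HomotopyCategory.quotient _ _).obj I)
  have h2 : IsIso (β.app ((HomotopyCategory.quotient _ _).obj I)) := isIso_unit_app' hA RG β I hI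
  have h4 : IsIso (DerivedCategory.Qh.map ((adjHo adj (ComplexShape.up ℤ)).counit.app
      ((HomotopyCategory.quotient _ _).obj I))) := by
    have h5 : IsIso (DerivedCategory.Q.map (cI P adj I)) :=
      (DerivedCategory.isIso_Q_map_iff_quasiIso A _).2 h
    exact (NatIso.isIso_map_iff (DerivedCategory.quotientCompQhIso A) (cI P adj I)).2 h5
  have h6 : IsIso ((WSerre.toDerived P).map (β.app ((HomotopyCategory.quotient _ _).obj I)) ≫
      (dadj P adj hA RG β).counit.app
        (DerivedCategory.Qh.obj ((HomotopyCategory.quotient _ _).obj I))) := by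
    refine (congrArg IsIso h1).mpr ?_
    infer_instance
  exact IsIso.of_isIso_comp_left ((WSerre.toDerived P).map (β.app ((HomotopyCategory.quotient _ _).obj I))) _

include hA adj

theorem main
    (hres : ∀ M : CochainComplex A ℤ, ∃ (I : CochainComplex A ℤ) (f : M ⟶ I), I.IsKInjective ∧ QuasiIso f ∧
      ∀ n, Injective (I.X n))
    (h1 : ∀ n : ℕ, n ≠ 0 → ∀ K : A, n • 𝟙 K = 0 → P K)
    (h2 : ∀ n : ℕ, n ≠ 0 → ∀ I : A, Injective I → Epi (n • 𝟙 I))
    (h3 : ∀ X : A, P X → (∀ n : ℕ, n ≠ 0 → Mono (n • 𝟙 X)) → IsZero X) :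
    (WSerre.toDerived P).Full ∧ (WSerre.toDerived P).Faithful ∧
      ∀ K : DerivedCategory A, WSerre.cohIn P K ↔ (WSerre.toDerived P).essImage K := by
  have hder : (R.mapHomotopyCategory (ComplexShape.up ℤ) ⋙ DerivedCategory.Qh).HasRightDerivedFunctor
      (HomotopyCategory.quasiIso A (ComplexShape.up ℤ)) := hasRightDerivedFunctor hA _
  let RG := (R.mapHomotopyCategory (ComplexShape.up ℤ) ⋙ DerivedCategory.Qh).totalRightDerived
    DerivedCategory.Qh (HomotopyCategory.quasiIso A (ComplexShape.up ℤ))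
  let β := (R.mapHomotopyCategory (ComplexShape.up ℤ) ⋙ DerivedCategory.Qh).totalRightDerivedUnit
    DerivedCategory.Qh (HomotopyCategory.quasiIso A (ComplexShape.up ℤ))
  let D := dadj P adj hA RG β
  have hcoh : ∀ Y : DerivedCategory P.FullSubcategory, WSerre.cohIn P ((WSerre.toDerived P).obj Y) := fun Y i =>
    P.prop_of_iso (Groth.Agent.Dcoh.MapDer.homologyMapDerApp P.ι i Y).symm
      ((DerivedCategory.homologyFunctor _ i).obj Y).property
  have hc : ∀ X : DerivedCategory A, WSerre.cohIn P X → IsIso (D.counit.app X) := by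
    intro X hX
    obtain ⟨I, i, hI, hi, hinj⟩ := hres (DerivedCategory.Q.objPreimage X)
    have hi' := (DerivedCategory.isIso_Q_map_iff_quasiIso A i).2 hi
    let e : DerivedCategory.Q.obj I ≅ X :=
      (asIso (DerivedCategory.Q.map i)).symm ≪≫ DerivedCategory.Q.objObjPreimageIso X
    refine isIso_counit P adj hA RG β I hI (quasiIso_cI P adj I (fun j => ?_) h1 (fun n hn j => ?_) h3) e
    · exact P.prop_of_iso (((DerivedCategory.homologyFunctor A j).mapIso e).symm ≪≫
        (DerivedCategory.homologyFunctorFactors A j).app I) (hX j)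
    · exact h2 n hn _ (hinj j)
  have hu : ∀ Y, IsIso (D.unit.app Y) := by
    intro Y
    have h4 := hc _ (hcoh Y)
    have h5 : IsIso ((WSerre.toDerived P).map (D.unit.app Y)) := by
      have h6 := D.left_triangle_components Y
      have h7 : IsIso ((WSerre.toDerived P).map (D.unit.app Y) ≫ D.counit.app ((WSerre.toDerived P).obj Y)) := by
        rw [h6]
        exact IsIso.id _
      exact IsIso.of_isIso_comp_right _ (D.counit.app ((WSerre.toDerived P).obj Y))
    rw [DerivedCategory.isIso_iff]
    intro n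
    have h8 : IsIso ((DerivedCategory.homologyFunctor A n).map ((WSerre.toDerived P).map (D.unit.app Y))) :=
      inferInstance
    have h9 := (Groth.Agent.Dcoh.MapDer.isIso_homology_map_iff P.ι _ n).1 h8
    exact isIso_of_reflects_iso _ P.ι
  have hunit : IsIso D.unit := NatIso.isIso_of_isIso_app _
  have hff := D.fullyFaithfulLOfIsIsoUnit
  refine ⟨hff.full, hff.faithful, fun K => ⟨fun hK => ?_, ?_⟩⟩
  · have := hc K hK
    exact ⟨RG.obj K, ⟨asIso (D.counit.app K)⟩⟩
  · rintro ⟨Y, ⟨e⟩⟩ i
    exact P.prop_of_iso ((DerivedCategory.homologyFunctor A i).mapIso e) (hcoh Y i)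

end K578.TorsDer
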