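import Groth.Agent.SiteCmp.K578.TorsSh
import Groth.Agent.CohtopB.TestSysSheaf
import Groth.Agent.CohtopA.TFree

/-!
# Injective abelian sheaves are divisible; torsion sheaves without torsion vanish
-/

set_option autoImplicit false
universe u

open CategoryTheory CategoryTheory.Limits Opposite

namespace K578.TorsInj

open Groth.Agent.CohtopB Groth.Agent.CohtopA

variable {C : Type u} [SmallCategory C] {J : GrothendieckTopology C}

lemma nsmul_app (F : Sheaf J AddCommGrpCat.{u}) (n : ℕ) (U : C) (s : F.obj.obj (op U)) :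
    ((n • 𝟙 F : F ⟶ F).hom.app (op U)).hom s = n • s := rfl

lemma epi_nsmul (n : ℕ) (hn : n ≠ 0) (I : Sheaf J AddCommGrpCat.{u}) (hI : Injective I) : Epi (n • 𝟙 I) := by
  have : Epi (n • 𝟙 I).hom := by
    have : ∀ U, Epi ((n • 𝟙 I).hom.app U) := by
      intro U
      rw [AddCommGrpCat.epi_iff_surjective]
      intro s
      have hm : Mono (n • 𝟙 (CohCx.freeSheaf J U.unop)) := TFree.tf_free J (yoneda.obj U.unop) n hn
      obtain ⟨g, hg⟩ : ∃ g : CohCx.freeSheaf J U.unop ⟶ I,
          (n • 𝟙 (CohCx.freeSheaf J U.unop)) ≫ g = (FreeSheafHom.homEquivSections U.unop I).symm s :=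
        ⟨Injective.factorThru _ _, Injective.comp_factorThru _ _⟩
      refine ⟨FreeSheafHom.homEquivSections U.unop I g, ?_⟩
      have h1 := congrArg (FreeSheafHom.homEquivSections U.unop I) hg
      rw [AddEquiv.apply_symm_apply, Preadditive.nsmul_comp, Category.id_comp, map_nsmul] at h1
      exact h1
    exact NatTrans.epi_of_epi_app _
  have h1 : Epi ((sheafToPresheaf J AddCommGrpCat.{u}).map (n • 𝟙 I)) := this
  exact (sheafToPresheaf J AddCommGrpCat.{u}).epi_of_epi_map h1

lemma isZero_of_torsion (X : Sheaf J AddCommGrpCat.{u}) (hX : SiteCmp.torsionSh J X)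
    (h : ∀ n : ℕ, n ≠ 0 → Mono (n • 𝟙 X)) : IsZero X := by
  refine TestSystem.isZero_of_sections X fun U s => ?_
  obtain ⟨S, hS, hs⟩ := hX U s
  refine TestSystem.section_eq_zero X hS s fun W g hg => ?_
  obtain ⟨n, hn, h0⟩ := isOfFinAddOrder_iff_nsmul_eq_zero.1 (hs g hg)
  have hm := h n hn.ne'
  have := (AddCommGrpCat.mono_iff_injective (n • 𝟙 (X.obj.obj (op W)))).1 (TFree.tf_sections (J := J) (F := X) h (op W) n hn.ne')
  apply this
  rw [map_zero]
  exact h0

end K578.TorsInj
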