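import Groth.Prelude.Def_SiteCmp

/-!
# The torsion subsheaf of an abelian sheaf: right adjoint of the inclusion of torsion sheaves
-/

set_option autoImplicit false
universe u

open CategoryTheory CategoryTheory.Limits Opposite

namespace K578.TorsSh

variable {C : Type u} [SmallCategory C] {J : GrothendieckTopology C}

section

variable (F : Sheaf J AddCommGrpCat.{u})

/-- restriction -/
def res {V W : C} (g : W ⟶ V) (s : F.obj.obj (op V)) : F.obj.obj (op W) := (F.obj.map g.op).hom s

lemma res_zero {V W : C} (g : W ⟶ V) : res F g 0 = 0 := map_zero (F.obj.map g.op).hom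
lemma res_add {V W : C} (g : W ⟶ V) (s t : F.obj.obj (op V)) : res F g (s + t) = res F g s + res F g t :=
  map_add (F.obj.map g.op).hom s t
lemma res_neg {V W : C} (g : W ⟶ V) (s : F.obj.obj (op V)) : res F g (-s) = - res F g s :=
  map_neg (F.obj.map g.op).hom s
lemma res_id {V : C} (s : F.obj.obj (op V)) : res F (𝟙 V) s = s := by
  simp [res]
lemma res_comp {U V W : C} (g : V ⟶ U) (h : W ⟶ V) (s : F.obj.obj (op U)) :
    res F (h ≫ g) s = res F h (res F g s) := by
  simp [res]

lemma res_hom {F G : Sheaf J AddCommGrpCat.{u}} (f : F ⟶ G) {V W : C} (g : W ⟶ V) (s : F.obj.obj (op V)) :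
    res G g ((f.hom.app (op V)).hom s) = (f.hom.app (op W)).hom (res F g s) :=
  (ConcreteCategory.congr_hom (f.hom.naturality g.op) s).symm

variable {F}

/-- arrows along which `s` has finite order -/
def killSieve {U : C} (s : F.obj.obj (op U)) : Sieve U where
  arrows _ g := IsOfFinAddOrder (res F g s)
  downward_closed := by
    rintro V W g hg h
    change IsOfFinAddOrder (res F (h ≫ g) s)
    rw [res_comp]
    exact AddMonoidHom.isOfFinAddOrder (F.obj.map h.op).hom hg

lemma killSieve_pullback {U V : C} (s : F.obj.obj (op U)) (g : V ⟶ U) :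
    (killSieve s).pullback g = killSieve (res F g s) := by
  ext W h
  change IsOfFinAddOrder (res F (h ≫ g) s) ↔ IsOfFinAddOrder (res F h (res F g s))
  rw [res_comp]

/-- torsion section -/
def IsT {U : C} (s : F.obj.obj (op U)) : Prop := killSieve s ∈ J U

lemma isT_iff {U : C} (s : F.obj.obj (op U)) :
    IsT s ↔ ∃ S ∈ J U, ∀ ⦃V : C⦄ (g : V ⟶ U), S g → IsOfFinAddOrder (res F g s) :=
  ⟨fun h => ⟨_, h, fun _ _ hg => hg⟩, fun ⟨_, hS, h⟩ => J.superset_covering (fun _ _ hg => h _ hg) hS⟩

lemma IsT.of_fin {U : C} {s : F.obj.obj (op U)} (hs : IsOfFinAddOrder s) : IsT s := by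
  have : killSieve s = ⊤ := by
    rw [eq_top_iff]
    rintro V g -
    exact AddMonoidHom.isOfFinAddOrder (F.obj.map g.op).hom hs
  rw [IsT, this]
  exact J.top_mem U

lemma IsT.zero (U : C) : IsT (0 : F.obj.obj (op U)) := .of_fin IsOfFinAddOrder.zero

lemma IsT.res {U V : C} (g : V ⟶ U) {s : F.obj.obj (op U)} (hs : IsT s) : IsT (res F g s) := by
  rw [IsT, ← killSieve_pullback]
  exact J.pullback_stable g hs

lemma IsT.add {U : C} {s t : F.obj.obj (op U)} (hs : IsT s) (ht : IsT t) : IsT (s + t) := by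
  refine J.superset_covering ?_ (J.intersection_covering hs ht)
  rintro V g ⟨h1, h2⟩
  change IsOfFinAddOrder (K578.TorsSh.res F g (s + t))
  rw [res_add]
  exact IsOfFinAddOrder.add h1 h2

lemma IsT.neg {U : C} {s : F.obj.obj (op U)} (hs : IsT s) : IsT (-s) := by
  refine J.superset_covering ?_ hs
  rintro V g h1
  change IsOfFinAddOrder (K578.TorsSh.res F g (-s))
  rw [res_neg]
  exact isOfFinAddOrder_neg_iff.2 h1

lemma IsT.hom {F G : Sheaf J AddCommGrpCat.{u}} (f : F ⟶ G) {U : C} {s : F.obj.obj (op U)} (hs : IsT s) :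
    IsT ((f.hom.app (op U)).hom s) := by
  refine J.superset_covering ?_ hs
  rintro V g h1
  change IsOfFinAddOrder (K578.TorsSh.res G g _)
  rw [res_hom]
  exact AddMonoidHom.isOfFinAddOrder (f.hom.app (op V)).hom h1

lemma IsT.of_cover {U : C} {s : F.obj.obj (op U)} {S : Sieve U} (hS : S ∈ J U)
    (h : ∀ ⦃V : C⦄ (g : V ⟶ U), S g → IsT (K578.TorsSh.res F g s)) : IsT s := by
  refine J.transitive hS _ fun V g hg => ?_
  rw [killSieve_pullback]
  exact h g hg

variable (F) in
/-- torsion sections -/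
def tSub (U : C) : AddSubgroup (F.obj.obj (op U)) where
  carrier := {s | IsT s}
  zero_mem' := .zero U
  add_mem' hs ht := hs.add ht
  neg_mem' hs := hs.neg

end

section

variable (F : Sheaf J AddCommGrpCat.{u})

/-- presheaf of torsion sections -/
def tPre : Cᵒᵖ ⥤ AddCommGrpCat.{u} where
  obj X := AddCommGrpCat.of (tSub F (unop X))
  map {X Y} f := AddCommGrpCat.ofHom
    { toFun := fun s => ⟨res F f.unop s.1, IsT.res f.unop s.2⟩
      map_zero' := Subtype.ext (res_zero F f.unop)
      map_add' := fun s t => Subtype.ext (res_add F f.unop s.1 t.1) }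
  map_id _ := by
    ext s
    exact res_id F s.1
  map_comp f g := by
    ext s
    exact res_comp F f.unop g.unop s.1

/-- as a subfunctor. -/
def tSubfunctor : Subfunctor (F.obj ⋙ forget AddCommGrpCat.{u}) where
  obj X := {s | IsT (F := F) (U := unop X) s}
  map f _ hs := IsT.res f.unop hs

/-- The underlying Type-valued presheaves. -/
def tPreIso : tPre F ⋙ forget AddCommGrpCat.{u} ≅ (tSubfunctor F).toFunctor :=
  NatIso.ofComponents (fun X => Equiv.toIso
    { toFun := fun s => ⟨s.1, s.2⟩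
      invFun := fun s => ⟨s.1, s.2⟩
      left_inv := fun _ => rfl
      right_inv := fun _ => rfl }) (fun _ => rfl)

theorem isSheaf_tPre : Presheaf.IsSheaf J (tPre F) := by
  have hM : Presieve.IsSheaf J (F.obj ⋙ forget AddCommGrpCat.{u}) :=
    (isSheaf_iff_isSheaf_of_type J _).1 ((Presheaf.isSheaf_iff_isSheaf_forget J F.obj (forget AddCommGrpCat.{u})).1 F.property)
  rw [Presheaf.isSheaf_iff_isSheaf_forget J (tPre F) (forget AddCommGrpCat.{u}), isSheaf_iff_isSheaf_of_type]
  refine Presieve.isSheaf_iso J (tPreIso F).symm (((tSubfunctor F).isSheaf_iff hM).2 ?_)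
  intro X s hs
  exact IsT.of_cover hs fun V g hg => hg

/-- The torsion subsheaf. -/
def t : Sheaf J AddCommGrpCat.{u} := ⟨tPre F, isSheaf_tPre F⟩

/-- its inclusion. -/
def ι : t F ⟶ F := ⟨{
  app X := AddCommGrpCat.ofHom (tSub F (unop X)).subtype
  naturality _ _ _ := rfl }⟩

lemma isTorsion_t : SiteCmp.torsionSh J (t F) := by
  intro U s
  have hs : IsT s.1 := s.2
  obtain ⟨S, hS, h⟩ := (isT_iff _).1 hs
  refine ⟨S, hS, fun V g hg => ?_⟩
  obtain ⟨n, hn, h0⟩ := isOfFinAddOrder_iff_nsmul_eq_zero.1 (h g hg)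
  refine isOfFinAddOrder_iff_nsmul_eq_zero.2 ⟨n, hn, ?_⟩
  apply Subtype.ext
  exact h0

/-- universal property -/
def lift {T : Sheaf J AddCommGrpCat.{u}} (hT : SiteCmp.torsionSh J T) (f : T ⟶ F) : T ⟶ t F := ⟨{
  app X := AddCommGrpCat.ofHom ((f.hom.app X).hom.codRestrict (tSub F (unop X)) fun s =>
    IsT.hom f ((isT_iff _).2 (hT (unop X) s)))
  naturality X Y g := by
    ext s
    apply Subtype.ext
    exact ConcreteCategory.congr_hom (f.hom.naturality g) s }⟩

lemma lift_ι {T : Sheaf J AddCommGrpCat.{u}} (hT : SiteCmp.torsionSh J T) (f : T ⟶ F) :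
    lift F hT f ≫ ι F = f := rfl

lemma hom_ext {T : Sheaf J AddCommGrpCat.{u}} (f g : T ⟶ t F) (h : f ≫ ι F = g ≫ ι F) : f = g := by
  apply Sheaf.hom_ext
  ext X s
  apply Subtype.ext
  exact ConcreteCategory.congr_hom (congrArg (fun k => k.hom.app X) h) s

end

theorem exists_rightAdjoint : (SiteCmp.torsionSh J).ι.IsLeftAdjoint := by
  have (F : Sheaf J AddCommGrpCat.{u}) : HasTerminal (CostructuredArrow (SiteCmp.torsionSh J).ι F) := by
    let X : CostructuredArrow (SiteCmp.torsionSh J).ι F :=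
      CostructuredArrow.mk (Y := (⟨t F, isTorsion_t F⟩ : (SiteCmp.torsionSh J).FullSubcategory)) (ι F)
    refine IsTerminal.hasTerminal (X := X) (IsTerminal.ofUniqueHom (fun Y => ?_) ?_)
    · exact CostructuredArrow.homMk (ObjectProperty.homMk (lift F Y.left.property Y.hom)) rfl
    · intro Y m
      apply CostructuredArrow.hom_ext
      apply ObjectProperty.hom_ext
      apply hom_ext
      exact CostructuredArrow.w m
  exact isLeftAdjoint_of_costructuredArrowTerminals _

lemma torsion_of_nsmul (n : ℕ) (hn : n ≠ 0) (K : Sheaf J AddCommGrpCat.{u}) (h : n • 𝟙 K = 0) :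
    SiteCmp.torsionSh J K := by
  intro U s
  refine ⟨⊤, J.top_mem U, fun V g _ => ?_⟩
  refine isOfFinAddOrder_iff_nsmul_eq_zero.2 ⟨n, Nat.pos_of_ne_zero hn, ?_⟩
  have h1 := ConcreteCategory.congr_hom (congrArg (fun k => k.hom.app (op V)) h) ((K.obj.map g.op).hom s)
  exact h1

end K578.TorsSh
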