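import Groth.Agent.SiteCmp.K578.Upstairs
import Groth.Agent.SiteCmp.K578.CoreEq

/-!
# `f^*` and `Rf_*` as quasi-inverse equivalences: higher direct images of the modules in `A`
-/

set_option autoImplicit false
universe w' u

open CategoryTheory CategoryTheory.Limits Opposite DerivedCategory

attribute [local instance] HasDerivedCategory.standard

namespace K578.Equiv

variable {C : Type u} [SmallCategory C] {J : GrothendieckTopology C} {O_C : Sheaf J CommRingCat.{u}}
    {D : Type u} [SmallCategory D] {K : GrothendieckTopology D} {O_D : Sheaf K CommRingCat.{u}}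
    (f : ModSite.RMor O_C O_D) [PreservesFiniteLimits f.pull] [SiteCmp.HasRpushD f]
    (adj : SiteCmp.pullD f ⊣ SiteCmp.RpushD f)
    (A : ObjectProperty (ModSite.Mod O_C)) (A' : ObjectProperty (ModSite.Mod O_D))
    (h2c : ∀ F : ModSite.Mod O_C, A F → ∃ F' : ModSite.Mod O_D, A' F' ∧ Nonempty (f.pull.obj F' ≅ F))
    (h3 : ∀ F' : ModSite.Mod O_D, A' F' → IsIso (adj.unit.app (SiteCmp.inD O_D F')))

/-- `f^*` of a single object. -/
noncomputable def pullSingle (F' : ModSite.Mod O_D) :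
    (SiteCmp.pullD f).obj (SiteCmp.inD O_D F') ≅ (singleFunctor (ModSite.Mod O_C) 0).obj (f.pull.obj F') :=
  (f.pull.mapDerivedCategorySingleFunctor 0).app F'

include h2c h3 in
/-- `Rf_* F` is a single object for `F ∈ A`. -/
lemma exists_iso (F : ModSite.Mod O_C) (hF : A F) : ∃ F' : ModSite.Mod O_D, A' F' ∧
    Nonempty ((SiteCmp.RpushD f).obj ((singleFunctor (ModSite.Mod O_C) 0).obj F) ≅
      (singleFunctor (ModSite.Mod O_D) 0).obj F') := by
  obtain ⟨F', hF', ⟨e⟩⟩ := h2c F hF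
  have := h3 F' hF'
  refine ⟨F', hF', ⟨?_⟩⟩
  exact (SiteCmp.RpushD f).mapIso ((singleFunctor _ 0).mapIso e.symm ≪≫ (pullSingle f F').symm) ≪≫
    (asIso (adj.unit.app (SiteCmp.inD O_D F'))).symm

variable [HasInjectiveResolutions (ModSite.Mod O_C)]

include h2c h3 in
lemma isZero_Rpush (F : ModSite.Mod O_C) (hF : A F) (p : ℕ) (hp : (0 : ℤ) < p) :
    IsZero ((f.Rpush p).obj F) := by
  obtain ⟨F', -, ⟨e⟩⟩ := exists_iso f adj A A' h2c h3 F hF
  have h1 : IsZero ((homologyFunctor (ModSite.Mod O_D) (p : ℤ)).obj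
      ((singleFunctor (ModSite.Mod O_D) 0).obj F')) := isZero_of_isLE _ 0 p hp
  exact (h1.of_iso ((homologyFunctor (ModSite.Mod O_D) (p : ℤ)).mapIso e)).of_iso
    (K578.RpushSingle.homologySingle f F p).symm

include h2c h3 in
/-- `R^p f_* F ∈ A'` for `F ∈ A`. -/
lemma prop_Rpush [WSerre.IsWeakSerre A'] (F : ModSite.Mod O_C) (hF : A F) (p : ℕ) :
    A' ((f.Rpush p).obj F) := by
  obtain ⟨F', hF', ⟨e⟩⟩ := exists_iso f adj A A' h2c h3 F hF
  refine A'.prop_of_iso ((homologyFunctor (ModSite.Mod O_D) (p : ℤ)).mapIso e.symm ≪≫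
    K578.RpushSingle.homologySingle f F p) ?_
  exact K578.CohDev.cohIn_single A' F' hF' 0 p

end K578.Equiv
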