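import Groth.Agent.SiteCmp.K578.EpsDer
import Groth.Agent.SiteCmp.K578.LocZero
import Groth.Agent.SiteCmp.K578.Upstairs
import Groth.Agent.SiteCmp.K578.CoreEq

/-!
# Comparing two topologies on modules
-/

set_option autoImplicit false
universe u

open CategoryTheory CategoryTheory.Limits Opposite DerivedCategory

attribute [local instance] HasDerivedCategory.standard

namespace K578.EpsFinal

open Groth.Agent.CohtopB Groth.Agent.CohtopB.TestSys

section Fam

variable {C : Type u} [SmallCategory C] {J : GrothendieckTopology C}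

/-- A covering family from a sieve generated by objects in `B`. -/
lemma exists_family (B : Set C) {V : C} (T : Sieve V) (hT : gen T (fun W => W ∈ B) ∈ J V) :
    ∃ (ι : Type u) (Y : ι → C) (g : ∀ i, Y i ⟶ V), (∀ i, T.arrows (g i)) ∧ Sieve.ofArrows Y g ∈ J V ∧
      ∀ i, Y i ∈ B := by
  refine ⟨{p : Σ Y : C, (Y ⟶ V) // T.arrows p.2 ∧ p.1 ∈ B}, fun p => p.1.1, fun p => p.1.2,
    fun p => p.2.1, J.superset_covering ?_ hT, fun p => p.2.2⟩
  rintro W g ⟨Y, k, f, rfl, h1, h2⟩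
  exact ⟨Y, k, f, ⟨(⟨⟨Y, f⟩, h1, h2⟩ : {p : Σ Y : C, (Y ⟶ V) // T.arrows p.2 ∧ p.1 ∈ B})⟩, rfl⟩

end Fam

variable {C : Type u} [SmallCategory C] {J J' : GrothendieckTopology C} (h : J' ≤ J) (O : Sheaf J CommRingCat.{u})
    [PreservesFiniteLimits (SiteCmp.eps h O).pull] [SiteCmp.HasRpushD (SiteCmp.eps h O)]
    (adj : SiteCmp.pullD (SiteCmp.eps h O) ⊣ SiteCmp.RpushD (SiteCmp.eps h O))
    (A : ObjectProperty (ModSite.Mod O)) [WSerre.IsWeakSerre A] (B : Set C)
    (h3 : ∀ U : C, ∃ (ι : Type u) (Y : ι → C) (g : ∀ i, Y i ⟶ U), Sieve.ofArrows Y g ∈ J' U ∧ ∀ i, Y i ∈ B)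
    (h4 : ∀ U ∈ B, ∀ F : ModSite.Mod O, A F → ∀ p : ℕ, 0 < p → Subsingleton (ModSite.HU O F p U))

include h3 h4

omit [PreservesFiniteLimits (SiteCmp.eps h O).pull] [WSerre.IsWeakSerre A] in
lemma isZero_pos (F : ModSite.Mod O) (hF : A F) (p : ℤ) (hp : 0 < p) :
    IsZero ((homologyFunctor (ModSite.Mod (SiteCmp.epsRing h O)) p).obj
      ((SiteCmp.RpushD (SiteCmp.eps h O)).obj ((singleFunctor (ModSite.Mod O) 0).obj F))) := by
  obtain ⟨n, rfl⟩ := Int.eq_ofNat_of_zero_le hp.le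
  exact K578.LocZero.isZero_homologySingle_of_local (SiteCmp.eps h O) F n B h3
    (fun W hW => h4 W hW F hF n (by exact_mod_cast hp))

theorem isWeakSerre : WSerre.IsWeakSerre (A.map (SiteCmp.eps h O).push) := by
  have := K578.EpsMod.full h O
  have := K578.EpsMod.faithful h O
  have := K578.Der.hasInjectiveResolutions O
  have : (SiteCmp.eps h O).pull.Additive := (SiteCmp.eps h O).adj.left_adjoint_additive
  refine K578.MapSerre.isWeakSerre_map (SiteCmp.eps h O).adj A fun S hS h₁ => ?_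
  exact K578.LocZero.epi_push (SiteCmp.eps h O) S hS (isZero_pos h O A B h3 h4 S.X₁ h₁ 1 (by lia))

theorem equiv :
    (∀ Y : DerivedCategory (ModSite.Mod (SiteCmp.epsRing h O)), WSerre.cohIn (A.map (SiteCmp.eps h O).push) Y →
      WSerre.cohIn A ((SiteCmp.pullD (SiteCmp.eps h O)).obj Y) ∧ IsIso (adj.unit.app Y)) ∧
    (∀ X : DerivedCategory (ModSite.Mod O), WSerre.cohIn A X →
      WSerre.cohIn (A.map (SiteCmp.eps h O).push) ((SiteCmp.RpushD (SiteCmp.eps h O)).obj X) ∧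
      IsIso (adj.counit.app X)) := by
  have := K578.EpsMod.full h O
  have := K578.EpsMod.faithful h O
  have := K578.Der.hasInjectiveResolutions O
  have := isWeakSerre h O A B h3 h4
  have hc : ∀ F : ModSite.Mod O, IsIso ((SiteCmp.eps h O).adj.counit.app F) := fun F => inferInstance
  have hJ : ∀ U : C, gen (⊤ : Sieve U) (fun W => W ∈ B) ∈ J U := fun U => h U (K578.Hyp.gen_of_cover B h3 U)
  refine K578.CoreEq.equiv_of_trunc (SiteCmp.eps h O).pull adj A (A.map (SiteCmp.eps h O).push)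
    (fun F' hF' => ?_) (fun F hF => ?_) (fun F' hF' => ?_) (fun X hX n j hj => ?_)
  · obtain ⟨F, hF, ⟨e⟩⟩ := (A.prop_map_iff _ F').1 hF'
    have := hc F
    exact A.prop_of_iso ((asIso ((SiteCmp.eps h O).adj.counit.app F)).symm ≪≫
      (SiteCmp.eps h O).pull.mapIso e) hF
  · have := hc F
    exact ⟨(SiteCmp.eps h O).push.obj F, A.prop_map_obj _ hF, ⟨asIso ((SiteCmp.eps h O).adj.counit.app F)⟩⟩
  · obtain ⟨F, hF, ⟨e⟩⟩ := (A.prop_map_iff _ F').1 hF'
    obtain ⟨e'⟩ := K578.LocZero.nonempty_iso_single (SiteCmp.eps h O) F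
      (fun p hp => isZero_pos h O A B h3 h4 F hF p hp)
    exact K578.EpsDer.isIso_unit_of_iso adj (K578.EpsDer.isIso_counit h O adj)
      (e' ≪≫ (singleFunctor _ 0).mapIso e)
  · refine K578.Upstairs.isIso_homology_truncGEπ' (SiteCmp.eps h O) A B B ?_ ?_ h3 ?_ 0 ?_ X hX n j (by lia)
    · intro U
      obtain ⟨ι, Y, g, h5, h6⟩ := h3 U
      exact ⟨ι, Y, g, h U h5, h6⟩
    · refine fun V _ => ⟨0, fun T hT => ?_⟩
      obtain ⟨ι, Y, g, h5, h6, h7⟩ := exists_family (J := J) B T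
        (gen_mem_of_cover (fun W => W ∈ B) hJ T hT)
      exact ⟨ι, Y, g, h5, h6, fun i F hF k hk => h4 (Y i) (h7 i) F hF k hk⟩
    · refine fun V _ => ⟨0, fun T hT => ?_⟩
      obtain ⟨ι, Y, g, h5, h6, h7⟩ := exists_family (J := J') B T
        (gen_mem_of_cover (fun W => W ∈ B) (K578.Hyp.gen_of_cover B h3) T hT)
      exact ⟨ι, Y, g, h5, h6, fun i F hF k hk => h4 (Y i) (h7 i) F hF k hk⟩
    · intro F hF p hp
      exact (isZero_pos h O A B h3 h4 F hF p hp).of_iso (K578.RpushSingle.homologySingle _ F p).symm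

end K578.EpsFinal
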