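import Groth.Prelude.Def_SiteCmp

/-!
# The comparison morphism `ε` of two topologies on modules: `ε_*` is fully faithful
-/

set_option autoImplicit false
universe u

open CategoryTheory CategoryTheory.Limits Opposite

namespace K578.EpsMod

variable {C : Type u} [SmallCategory C] {J J' : GrothendieckTopology C} (h : J' ≤ J) (O : Sheaf J CommRingCat.{u})

/-- The additive map underlying a morphism of direct images. -/
noncomputable def preApp {F G : ModSite.Mod O} (φ : (SiteCmp.eps h O).push.obj F ⟶ (SiteCmp.eps h O).push.obj G) :
    F.val.presheaf ⟶ G.val.presheaf where
  app X := ((PresheafOfModules.toPresheaf _).map φ.val).app X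
  naturality _ _ g := ((PresheafOfModules.toPresheaf _).map φ.val).naturality g

/-- The preimage of a morphism. -/
noncomputable def preimage {F G : ModSite.Mod O}
    (φ : (SiteCmp.eps h O).push.obj F ⟶ (SiteCmp.eps h O).push.obj G) : F ⟶ G where
  val := PresheafOfModules.homMk (preApp h O φ) (fun X r m => (φ.val.app X).hom.map_smul r m)

/-- `ε_*` is fully faithful. -/
noncomputable def fullyFaithful : (SiteCmp.eps h O).push.FullyFaithful where
  preimage φ := preimage h O φ
  map_preimage φ := by
    ext X m
    rfl
  preimage_map φ := by
    ext X m
    rfl

instance full : (SiteCmp.eps h O).push.Full := (fullyFaithful h O).full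
instance faithful : (SiteCmp.eps h O).push.Faithful := (fullyFaithful h O).faithful

end K578.EpsMod
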