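import Groth.Agent.CohtopB.Can
import Mathlib.Algebra.Homology.HomotopyCategory.HomComplexSingle

/-!
# Maps from a single complex into a complex

`fs z hz : X[0] ⟶ Z` is the map of complexes given by a cocycle `z : X ⟶ Z⁰`.
-/

set_option autoImplicit false
universe w v u w' v' u'

open CategoryTheory CategoryTheory.Limits CategoryTheory.Pretriangulated DerivedCategory

namespace K578.FS

open Groth.Agent.CohtopB HomologicalComplex

section

variable {A : Type u} [Category.{v} A] [Abelian A]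

/-- `X[0]` as a complex. -/
noncomputable abbrev sg (X : A) : CochainComplex A ℤ := (CochainComplex.singleFunctor A 0).obj X

/-- The identification of the degree `0` part. -/
noncomputable def sx (X : A) : (sg X).X 0 ≅ X := singleObjXSelf (ComplexShape.up ℤ) 0 X

lemma sg_d (X : A) (i j : ℤ) : (sg X).d i j = 0 := single_obj_d _ _ _ _ _

lemma sg_map_f {X Y : A} (g : Y ⟶ X) :
    ((CochainComplex.singleFunctor A 0).map g).f 0 = (sx Y).hom ≫ g ≫ (sx X).inv :=
  single_map_f_self _ _ _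

lemma hom_ext {X : A} {Z : CochainComplex A ℤ} {f g : sg X ⟶ Z} (h : f.f 0 = g.f 0) : f = g :=
  from_single_hom_ext h

/-- The map of complexes `X[0] ⟶ Z` given by a cocycle. -/
noncomputable def fs {X : A} {Z : CochainComplex A ℤ} (z : X ⟶ Z.X 0) (hz : z ≫ Z.d 0 1 = 0) :
    sg X ⟶ Z :=
  mkHomFromSingle z (fun k hk => by
    obtain rfl : (0 : ℤ) + 1 = k := hk
    exact hz)

lemma fs_f {X : A} {Z : CochainComplex A ℤ} (z : X ⟶ Z.X 0) (hz : z ≫ Z.d 0 1 = 0) :
    (fs z hz).f 0 = (sx X).hom ≫ z :=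
  mkHomFromSingle_f _ _

lemma exists_fs {X : A} {Z : CochainComplex A ℤ} (f : sg X ⟶ Z) : ∃ z hz, f = fs z hz := by
  refine ⟨(sx X).inv ≫ f.f 0, ?_, ?_⟩
  · rw [Category.assoc, f.comm, sg_d, zero_comp, comp_zero]
  · apply hom_ext
    rw [fs_f, Iso.hom_inv_id_assoc]

lemma fs_injective {X : A} {Z : CochainComplex A ℤ} {z z' : X ⟶ Z.X 0} {hz : z ≫ Z.d 0 1 = 0}
    {hz' : z' ≫ Z.d 0 1 = 0} (h : fs z hz = fs z' hz') : z = z' := by
  have h1 : (fs z hz).f 0 = (fs z' hz').f 0 := by rw [h]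
  rw [fs_f, fs_f] at h1
  exact (cancel_epi _).1 h1

lemma map_fs {X Y : A} {Z : CochainComplex A ℤ} (g : Y ⟶ X) (z : X ⟶ Z.X 0) (hz : z ≫ Z.d 0 1 = 0) :
    (CochainComplex.singleFunctor A 0).map g ≫ fs z hz =
      fs (g ≫ z) (by rw [Category.assoc, hz, comp_zero]) := by
  apply hom_ext
  rw [comp_f, fs_f, fs_f, sg_map_f]
  simp

lemma fs_comp {X : A} {Z Z' : CochainComplex A ℤ} (z : X ⟶ Z.X 0) (hz : z ≫ Z.d 0 1 = 0) (f : Z ⟶ Z') :
    fs z hz ≫ f = fs (z ≫ f.f 0) (by rw [Category.assoc, f.comm, reassoc_of% hz, zero_comp]) := by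
  apply hom_ext
  rw [comp_f, fs_f, fs_f, Category.assoc]

open CochainComplex.HomComplex in
/-- A boundary gives a null-homotopic map. -/
lemma homotopy_of_boundary {X : A} {Z : CochainComplex A ℤ} (z : X ⟶ Z.X 0) (hz : z ≫ Z.d 0 1 = 0)
    (h : X ⟶ Z.X (-1)) (e : h ≫ Z.d (-1) 0 = z) : Nonempty (Homotopy (fs z hz) 0) := by
  refine ⟨(Cochain.equivHomotopy _ _).symm ⟨Cochain.fromSingleMk h (by simp), ?_⟩⟩
  rw [Cochain.δ_fromSingleMk h (by simp) 0 0 (by simp), Cochain.ofHom_zero, add_zero, e]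
  have h2 := Cochain.fromSingleMk_surjective (Cochain.ofHom (fs z hz)) 0 (by simp)
  obtain ⟨f, hf⟩ := h2
  rw [← hf]
  congr 1
  have h3 : (Cochain.fromSingleMk (p := 0) (n := 0) f (by simp)).v 0 0 (by simp) =
      (Cochain.ofHom (fs z hz)).v 0 0 (by simp) := by rw [hf]
  rw [Cochain.fromSingleMk_v, Cochain.ofHom_v, fs_f] at h3
  exact (cancel_epi (sx X).hom).1 h3

variable [HasDerivedCategory.{w} A]

lemma Q_map_fs_eq_zero {X : A} {Z : CochainComplex A ℤ} (z : X ⟶ Z.X 0) (hz : z ≫ Z.d 0 1 = 0)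
    (h : X ⟶ Z.X (-1)) (e : h ≫ Z.d (-1) 0 = z) : Q.map (fs z hz) = 0 := by
  obtain ⟨h⟩ := homotopy_of_boundary z hz h e
  have := DerivedCategory.Q_map_eq_of_homotopy A h
  rw [this, Functor.map_zero]

end

end K578.FS
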