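import Mathlib.Algebra.Homology.DerivedCategory.TStructure
import Mathlib.Algebra.Homology.DerivedCategory.Ext.ExactSequences
import Mathlib.CategoryTheory.Abelian.Injective.Basic
import Mathlib.CategoryTheory.Triangulated.Functor

/-!
# Comparison of `Hom(S₁, X)` and `Hom(S₂, RF X)`: dévissage

`RF : T₁ ⥤ T₂` triangulated, `η : S₂ ⟶ RF S₁`.
-/

set_option autoImplicit false
universe w₁ w₂ v₁ v₂ u₁ u₂

open CategoryTheory CategoryTheory.Limits CategoryTheory.Pretriangulated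

namespace K578.Leray

section Abs

variable {T₁ : Type u₁} [Category.{v₁} T₁] [HasZeroObject T₁] [HasShift T₁ ℤ] [Preadditive T₁]
  [∀ n : ℤ, (shiftFunctor T₁ n).Additive] [Pretriangulated T₁]
  {T₂ : Type u₂} [Category.{v₂} T₂] [HasZeroObject T₂] [HasShift T₂ ℤ] [Preadditive T₂]
  [∀ n : ℤ, (shiftFunctor T₂ n).Additive] [Pretriangulated T₂]
  (RF : T₁ ⥤ T₂) [RF.CommShift ℤ] [RF.IsTriangulated] {S₁ : T₁} {S₂ : T₂} (η : S₂ ⟶ RF.obj S₁)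

/-- Injectivity of `Hom(S₁, X) ⟶ Hom(S₂, RF X)`. -/
def Inj : ObjectProperty T₁ := fun X => ∀ ξ : S₁ ⟶ X, η ≫ RF.map ξ = 0 → ξ = 0

/-- Surjectivity of `Hom(S₁, X) ⟶ Hom(S₂, RF X)`. -/
def Srj : ObjectProperty T₁ := fun X => ∀ x : S₂ ⟶ RF.obj X, ∃ ξ : S₁ ⟶ X, η ≫ RF.map ξ = x

omit [HasZeroObject T₁] [HasZeroObject T₂] [HasShift T₁ ℤ] [HasShift T₂ ℤ] [RF.CommShift ℤ]
  [∀ n : ℤ, (shiftFunctor T₁ n).Additive] [∀ n : ℤ, (shiftFunctor T₂ n).Additive]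
  [Pretriangulated T₁] [Pretriangulated T₂] [RF.IsTriangulated] in
lemma Inj.of_iso {X Y : T₁} (e : X ≅ Y) (h : Inj RF η X) : Inj RF η Y := by
  intro ξ hξ
  have := h (ξ ≫ e.inv) (by rw [RF.map_comp, reassoc_of% hξ, zero_comp])
  rw [← cancel_mono e.inv, this, zero_comp]

omit [HasZeroObject T₁] [HasZeroObject T₂] [HasShift T₁ ℤ] [HasShift T₂ ℤ] [RF.CommShift ℤ]
  [∀ n : ℤ, (shiftFunctor T₁ n).Additive] [∀ n : ℤ, (shiftFunctor T₂ n).Additive]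
  [Pretriangulated T₁] [Pretriangulated T₂] [RF.IsTriangulated] [Preadditive T₁] [Preadditive T₂] in
lemma Srj.of_iso {X Y : T₁} (e : X ≅ Y) (h : Srj RF η X) : Srj RF η Y := by
  intro x
  obtain ⟨ξ, hξ⟩ := h (x ≫ RF.map e.inv)
  refine ⟨ξ ≫ e.hom, ?_⟩
  rw [RF.map_comp, ← Category.assoc, hξ, Category.assoc, ← RF.map_comp, e.inv_hom_id, RF.map_id,
    Category.comp_id]

lemma inj₃ (T : Triangle T₁) (hT : T ∈ distTriang T₁) (h₁ : Srj RF η T.obj₁) (h₂ : Inj RF η T.obj₂)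
    (h₁' : Inj RF η (T.obj₁⟦(1 : ℤ)⟧)) : Inj RF η T.obj₃ := by
  intro ξ hξ
  have h0 : ξ ≫ T.mor₃ = 0 := h₁' _ (by rw [RF.map_comp, reassoc_of% hξ, zero_comp])
  obtain ⟨ζ, rfl⟩ := Triangle.coyoneda_exact₃ T hT ξ h0
  rw [RF.map_comp, ← Category.assoc] at hξ
  obtain ⟨χ, hχ⟩ := Triangle.coyoneda_exact₂ _ (RF.map_distinguished T hT) _ hξ
  obtain ⟨χ', rfl⟩ := h₁ χ
  have h3 : ζ - χ' ≫ T.mor₁ = 0 := by
    apply h₂
    have hχ' : η ≫ RF.map ζ = (η ≫ RF.map χ') ≫ RF.map T.mor₁ := hχ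
    rw [RF.map_sub, Preadditive.comp_sub, hχ', RF.map_comp, Category.assoc, sub_self]
  rw [sub_eq_zero] at h3
  rw [h3, Category.assoc, comp_distTriang_mor_zero₁₂ T hT, comp_zero]

lemma srj₃ (T : Triangle T₁) (hT : T ∈ distTriang T₁) (h₂ : Srj RF η T.obj₂)
    (h₁ : Srj RF η (T.obj₁⟦(1 : ℤ)⟧)) (h₂' : Inj RF η (T.obj₂⟦(1 : ℤ)⟧)) : Srj RF η T.obj₃ := by
  intro x
  obtain ⟨ζ, hζ⟩ := h₁ (x ≫ RF.map T.mor₃)
  have h0 : ζ ≫ T.mor₁⟦(1 : ℤ)⟧' = 0 := by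
    apply h₂'
    have h5 : T.mor₃ ≫ T.mor₁⟦(1 : ℤ)⟧' = 0 := comp_distTriang_mor_zero₃₁ T hT
    rw [RF.map_comp, reassoc_of% hζ, ← RF.map_comp, h5, RF.map_zero, comp_zero]
  obtain ⟨ξ, rfl⟩ := Triangle.coyoneda_exact₁ T hT ζ h0
  have h1 : (x - η ≫ RF.map ξ) ≫ RF.map T.mor₃ = 0 := by
    rw [Preadditive.sub_comp, ← hζ, RF.map_comp, Category.assoc, sub_self]
  have h2 : (x - η ≫ RF.map ξ) ≫ (RF.mapTriangle.obj T).mor₃ = 0 := by
    change (x - η ≫ RF.map ξ) ≫ (RF.map T.mor₃ ≫ (RF.commShiftIso (1 : ℤ)).hom.app T.obj₁) = 0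
    rw [reassoc_of% h1, zero_comp]
  obtain ⟨χ, hχ⟩ := Triangle.coyoneda_exact₃ _ (RF.map_distinguished T hT) _ h2
  obtain ⟨χ', rfl⟩ := h₂ χ
  refine ⟨ξ + χ' ≫ T.mor₂, ?_⟩
  rw [RF.map_add, Preadditive.comp_add, RF.map_comp]
  have h6 : (η ≫ RF.map χ') ≫ RF.map T.mor₂ = x - η ≫ RF.map ξ := hχ.symm
  rw [← Category.assoc, h6]
  abel

end Abs

section Der

open DerivedCategory

variable {A₁ : Type u₁} [Category.{v₁} A₁] [Abelian A₁] [HasDerivedCategory.{w₁} A₁] [EnoughInjectives A₁]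
  {A₂ : Type u₂} [Category.{v₂} A₂] [Abelian A₂] [HasDerivedCategory.{w₂} A₂]
  (RF : DerivedCategory A₁ ⥤ DerivedCategory A₂) [RF.CommShift ℤ] [RF.IsTriangulated]
  {S₁ : DerivedCategory A₁} {S₂ : DerivedCategory A₂} (η : S₂ ⟶ RF.obj S₁)

/-- If `Hom(S₁, X) ⟶ Hom(S₂, RF X)` is bijective for `X` a shift of an injective object, and for all `M[k]`,
`k < 0`, it is bijective for all `M[k]`. -/
theorem inj_and_srj
    (hneg : ∀ (M : A₁) (k : ℤ), k < 0 →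
      Inj RF η (((singleFunctor A₁ 0).obj M)⟦k⟧) ∧ Srj RF η (((singleFunctor A₁ 0).obj M)⟦k⟧))
    (hinj : ∀ (I : A₁) [Injective I] (k : ℤ), 0 ≤ k →
      Inj RF η (((singleFunctor A₁ 0).obj I)⟦k⟧) ∧ Srj RF η (((singleFunctor A₁ 0).obj I)⟦k⟧))
    (M : A₁) (k : ℤ) :
    Inj RF η (((singleFunctor A₁ 0).obj M)⟦k⟧) ∧ Srj RF η (((singleFunctor A₁ 0).obj M)⟦k⟧) := by
  obtain ⟨n, hn⟩ : ∃ n : ℕ, k < n := ⟨(k + 1).toNat, by omega⟩
  induction n generalizing M k with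
  | zero => exact hneg M k (by simpa using hn)
  | succ n ih =>
    rcases lt_or_ge k n with h | h
    · exact ih M k h
    obtain rfl : k = n := by push_cast at hn; lia
    -- the triangle
    let tri : ∀ M : A₁, ∃ (I : A₁) (_ : Injective I) (M' : A₁) (T : Triangle (DerivedCategory A₁)),
        T ∈ distTriang _ ∧ Nonempty (T.obj₁ ≅ ((singleFunctor A₁ 0).obj I)⟦(n - 1 : ℤ)⟧) ∧
        Nonempty (T.obj₂ ≅ ((singleFunctor A₁ 0).obj M')⟦(n - 1 : ℤ)⟧) ∧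
        Nonempty (T.obj₃ ≅ ((singleFunctor A₁ 0).obj M)⟦(n : ℤ)⟧) := by
      intro M
      let S : ShortComplex A₁ := ShortComplex.mk (Injective.ι M) (cokernel.π (Injective.ι M)) (by simp)
      have hS : S.ShortExact :=
        { exact := ShortComplex.exact_of_g_is_cokernel _ (cokernelIsCokernel _)
          mono_f := by dsimp [S]; infer_instance
          epi_g := by dsimp [S]; infer_instance }
      refine ⟨S.X₂, inferInstanceAs (Injective (Injective.under M)), S.X₃,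
        (Triangle.shiftFunctor (DerivedCategory A₁) (n - 1 : ℤ)).obj hS.singleTriangle.rotate,
        Triangle.shift_distinguished _ (rot_of_distTriang _ hS.singleTriangle_distinguished) _,
        ⟨Iso.refl _⟩, ⟨Iso.refl _⟩, ⟨?_⟩⟩
      exact ((shiftFunctorAdd' (DerivedCategory A₁) 1 (n - 1 : ℤ) n (by lia)).app _).symm
    have hI : ∀ M : A₁, Inj RF η (((singleFunctor A₁ 0).obj M)⟦(n : ℤ)⟧) := by
      intro M
      obtain ⟨I, hI, M', T, hT, ⟨e₁⟩, ⟨e₂⟩, ⟨e₃⟩⟩ := tri M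
      refine Inj.of_iso RF η e₃ (inj₃ RF η T hT ?_ ?_ ?_)
      · exact Srj.of_iso RF η e₁.symm (ih I (n - 1) (by lia)).2
      · exact Inj.of_iso RF η e₂.symm (ih M' (n - 1) (by lia)).1
      · refine Inj.of_iso RF η ?_ (hinj I n (by lia)).1
        exact (shiftFunctorAdd' (DerivedCategory A₁) (n - 1 : ℤ) 1 n (by lia)).app _ ≪≫
          (shiftFunctor (DerivedCategory A₁) (1 : ℤ)).mapIso e₁.symm
    refine ⟨hI M, ?_⟩
    obtain ⟨I, hI', M', T, hT, ⟨e₁⟩, ⟨e₂⟩, ⟨e₃⟩⟩ := tri M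
    refine Srj.of_iso RF η e₃ (srj₃ RF η T hT ?_ ?_ ?_)
    · exact Srj.of_iso RF η e₂.symm (ih M' (n - 1) (by lia)).2
    · refine Srj.of_iso RF η ?_ (hinj I n (by lia)).2
      exact (shiftFunctorAdd' (DerivedCategory A₁) (n - 1 : ℤ) 1 n (by lia)).app _ ≪≫
          (shiftFunctor (DerivedCategory A₁) (1 : ℤ)).mapIso e₁.symm
    · refine Inj.of_iso RF η ?_ (hI M')
      exact (shiftFunctorAdd' (DerivedCategory A₁) (n - 1 : ℤ) 1 n (by lia)).app _ ≪≫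
          (shiftFunctor (DerivedCategory A₁) (1 : ℤ)).mapIso e₂.symm

end Der

end K578.Leray
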