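import Groth.Agent.SiteCmp.K578.LocSingle
import Groth.Agent.CohtopA.DerProd
import Groth.Agent.Dcoh.DerAbs

/-!
# Local comparison of `Hom(P₁(u V)[0], K)` and `Hom(P₂(V)[0], RF K)`

`F : A₁ ⥤ A₂` an additive functor, `P₁ : C ⥤ A₁`, `P₂ : D ⥤ A₂` a test system, `fn : D ⥤ C`, with natural
bijections `Hom(P₁(fn V), M) = Hom(P₂ V, F M)`.
-/

set_option autoImplicit false
universe w₁ w₂ v₁ v₂ v₃ v₄ u₁ u₂ u₃ u₄

open CategoryTheory CategoryTheory.Limits CategoryTheory.Pretriangulated DerivedCategory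

namespace K578.LComp

open Groth.Agent.CohtopB Groth.Agent.CohtopB.TestSys HomologicalComplex K578.FS K578.LocSingle

variable {A₁ : Type u₁} [Category.{v₁} A₁] [Abelian A₁] [HasDerivedCategory.{w₁} A₁]
  {A₂ : Type u₂} [Category.{v₂} A₂] [Abelian A₂] [HasDerivedCategory.{w₂} A₂]
  {C : Type u₃} [Category.{v₃} C] {D : Type u₄} [Category.{v₄} D]

/-- The identification of the two versions of single objects. -/
noncomputable abbrev sq {A : Type u₁} [Category.{v₁} A] [Abelian A] [HasDerivedCategory.{w₁} A] (X : A) :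
    (singleFunctor A 0).obj X ≅ Q.obj (sg X) := (singleFunctorIsoCompQ A 0).app X

@[reassoc]
lemma sq_hom_nat {A : Type u₁} [Category.{v₁} A] [Abelian A] [HasDerivedCategory.{w₁} A] {X Y : A} (g : Y ⟶ X) :
    (singleFunctor A 0).map g ≫ (sq X).hom =
      (sq Y).hom ≫ Q.map ((CochainComplex.singleFunctor A 0).map g) :=
  (singleFunctorIsoCompQ A 0).hom.naturality g

/-- Comparison data: a natural transformation `P₂(V)[0] ⟶ RF(P₁(fn V)[0])` such that the induced maps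
`Hom(P₁(fn V)[0], K) ⟶ Hom(P₂(V)[0], RF K)` are locally bijective. -/
structure LocComp (K : GrothendieckTopology D) (P₁ : C ⥤ A₁) (P₂ : D ⥤ A₂) (fn : D ⥤ C)
    (RF : DerivedCategory A₁ ⥤ DerivedCategory A₂) where
  /-- The natural transformation. -/
  η : P₂ ⋙ singleFunctor A₂ 0 ⟶ fn ⋙ P₁ ⋙ singleFunctor A₁ 0 ⋙ RF
  surj : ∀ {V : D} {X : DerivedCategory A₁} (x : (singleFunctor A₂ 0).obj (P₂.obj V) ⟶ RF.obj X),
    ∃ T ∈ K V, ∀ {W : D} (g : W ⟶ V), T g →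
      ∃ ξ : (singleFunctor A₁ 0).obj (P₁.obj (fn.obj W)) ⟶ X,
        η.app W ≫ RF.map ξ = (singleFunctor A₂ 0).map (P₂.map g) ≫ x
  inj : ∀ {V : D} {X : DerivedCategory A₁} (ξ : (singleFunctor A₁ 0).obj (P₁.obj (fn.obj V)) ⟶ X),
    η.app V ≫ RF.map ξ = 0 → ∃ T ∈ K V, ∀ {W : D} (g : W ⟶ V), T g →
      (singleFunctor A₁ 0).map (P₁.map (fn.map g)) ≫ ξ = 0

section Construction

variable {K : GrothendieckTopology D} {P₁ : C ⥤ A₁} {P₂ : D ⥤ A₂} {fn : D ⥤ C}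
    {RF : DerivedCategory A₁ ⥤ DerivedCategory A₂} {F : A₁ ⥤ A₂} [F.Additive]
    (uq : F.mapHomologicalComplex (ComplexShape.up ℤ) ⋙ Q ⟶ Q ⋙ RF)
    (u : ∀ V : D, P₂.obj V ⟶ F.obj (P₁.obj (fn.obj V)))

variable (F) in
/-- The map of complexes into `F(I)` given by a cocycle. -/
noncomputable def fsF {X : A₂} {I : CochainComplex A₁ ℤ} (z : X ⟶ F.obj (I.X 0)) (hz : z ≫ F.map (I.d 0 1) = 0) :
    sg X ⟶ (F.mapHomologicalComplex (ComplexShape.up ℤ)).obj I :=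
  fs (Z := (F.mapHomologicalComplex (ComplexShape.up ℤ)).obj I) z hz

omit [HasDerivedCategory A₁] [HasDerivedCategory A₂] in
lemma fsF_comp {X : A₂} {I I' : CochainComplex A₁ ℤ} (z : X ⟶ F.obj (I.X 0)) (hz : z ≫ F.map (I.d 0 1) = 0)
    (f : I ⟶ I') (hz' : (z ≫ F.map (f.f 0)) ≫ F.map (I'.d 0 1) = 0) :
    fsF F z hz ≫ (F.mapHomologicalComplex (ComplexShape.up ℤ)).map f = fsF F (z ≫ F.map (f.f 0)) hz' :=
  fs_comp _ _ _

omit [HasDerivedCategory A₁] [HasDerivedCategory A₂] in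
lemma map_fsF {X Y : A₂} {I : CochainComplex A₁ ℤ} (g : Y ⟶ X) (z : X ⟶ F.obj (I.X 0))
    (hz : z ≫ F.map (I.d 0 1) = 0) (hz' : (g ≫ z) ≫ F.map (I.d 0 1) = 0) :
    (CochainComplex.singleFunctor A₂ 0).map g ≫ fsF F z hz = fsF F (g ≫ z) hz' :=
  map_fs _ _ _

omit [HasDerivedCategory A₁] [HasDerivedCategory A₂] in
lemma fsF_congr {X : A₂} {I : CochainComplex A₁ ℤ} {z z' : X ⟶ F.obj (I.X 0)}
    (hz : z ≫ F.map (I.d 0 1) = 0) (h : z = z') (hz' : z' ≫ F.map (I.d 0 1) = 0) :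
    fsF F z hz = fsF F z' hz' := by
  subst h
  rfl

omit [HasDerivedCategory A₁] [HasDerivedCategory A₂] in
lemma cocycle {V : D} {I : CochainComplex A₁ ℤ} {z : P₁.obj (fn.obj V) ⟶ I.X 0} (hz : z ≫ I.d 0 1 = 0) :
    (u V ≫ F.map z) ≫ F.map (I.d 0 1) = 0 := by
  rw [Category.assoc, ← F.map_comp, hz, F.map_zero, comp_zero]

/-- The map of complexes `P₂(V)[0] ⟶ F(P₁(fn V)[0])`. -/
noncomputable def ush (V : D) : sg (P₂.obj V) ⟶
    (F.mapHomologicalComplex (ComplexShape.up ℤ)).obj (sg (P₁.obj (fn.obj V))) :=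
  fsF F (u V ≫ F.map (sx (P₁.obj (fn.obj V))).inv) (cocycle u (by rw [sg_d, comp_zero]))

omit [HasDerivedCategory A₁] [HasDerivedCategory A₂] in
lemma ush_nat (hu : ∀ {V W : D} (g : W ⟶ V), P₂.map g ≫ u V = u W ≫ F.map (P₁.map (fn.map g)))
    {V W : D} (g : W ⟶ V) :
    (CochainComplex.singleFunctor A₂ 0).map (P₂.map g) ≫ ush u V =
      ush u W ≫ (F.mapHomologicalComplex (ComplexShape.up ℤ)).map
        ((CochainComplex.singleFunctor A₁ 0).map (P₁.map (fn.map g))) := by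
  have h : P₂.map g ≫ u V ≫ F.map (sx (P₁.obj (fn.obj V))).inv =
      (u W ≫ F.map (sx (P₁.obj (fn.obj W))).inv) ≫
        F.map (((CochainComplex.singleFunctor A₁ 0).map (P₁.map (fn.map g))).f 0) := by
    rw [sg_map_f, Category.assoc, ← F.map_comp, Iso.inv_hom_id_assoc, F.map_comp,
      ← Category.assoc, hu, Category.assoc]
  have hz : (P₂.map g ≫ u V ≫ F.map (sx (P₁.obj (fn.obj V))).inv) ≫
      F.map ((sg (P₁.obj (fn.obj V))).d 0 1) = 0 := by
    rw [sg_d, F.map_zero, comp_zero]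
  refine (map_fsF _ _ _ hz).trans ((fsF_congr hz h ?_).trans (fsF_comp _ _ _ ?_).symm)
  all_goals rw [← h]; exact hz

omit [HasDerivedCategory A₁] [HasDerivedCategory A₂] in
/-- `ush` composed with the map given by a cocycle. -/
lemma ush_fs {V : D} {I : CochainComplex A₁ ℤ} (z : P₁.obj (fn.obj V) ⟶ I.X 0) (hz : z ≫ I.d 0 1 = 0) :
    ush u V ≫ (F.mapHomologicalComplex (ComplexShape.up ℤ)).map (fs z hz) =
      fsF F (u V ≫ F.map z) (cocycle u hz) := by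
  have h : (u V ≫ F.map (sx (P₁.obj (fn.obj V))).inv) ≫ F.map ((fs z hz).f 0) = u V ≫ F.map z := by
    rw [fs_f, Category.assoc, ← F.map_comp, Iso.inv_hom_id_assoc]
  refine (fsF_comp _ _ _ ?_).trans (fsF_congr _ h _)
  rw [h]
  exact cocycle u hz

/-- The natural transformation `P₂(V)[0] ⟶ RF(P₁(fn V)[0])`. -/
noncomputable def etaApp (V : D) : (singleFunctor A₂ 0).obj (P₂.obj V) ⟶
    RF.obj ((singleFunctor A₁ 0).obj (P₁.obj (fn.obj V))) :=
  (sq (P₂.obj V)).hom ≫ Q.map (ush u V) ≫ uq.app (sg (P₁.obj (fn.obj V))) ≫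
    RF.map (sq (P₁.obj (fn.obj V))).inv

lemma etaApp_nat (hu : ∀ {V W : D} (g : W ⟶ V), P₂.map g ≫ u V = u W ≫ F.map (P₁.map (fn.map g)))
    {V W : D} (g : W ⟶ V) :
    (singleFunctor A₂ 0).map (P₂.map g) ≫ etaApp uq u V =
      etaApp uq u W ≫ RF.map ((singleFunctor A₁ 0).map (P₁.map (fn.map g))) := by
  have h1 := sq_hom_nat (P₂.map g)
  have h2 := ush_nat u hu g
  have h3 := uq.naturality ((CochainComplex.singleFunctor A₁ 0).map (P₁.map (fn.map g)))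
  have h4 : Q.map ((CochainComplex.singleFunctor A₁ 0).map (P₁.map (fn.map g))) ≫
      (sq (P₁.obj (fn.obj V))).inv =
      (sq (P₁.obj (fn.obj W))).inv ≫ (singleFunctor A₁ 0).map (P₁.map (fn.map g)) :=
    (singleFunctorIsoCompQ A₁ 0).inv.naturality (P₁.map (fn.map g))
  dsimp only [Functor.comp_map] at h3
  rw [etaApp, etaApp, reassoc_of% h1, ← Q.map_comp_assoc, h2, Q.map_comp_assoc, reassoc_of% h3,
    ← RF.map_comp, h4, RF.map_comp]
  simp only [Category.assoc]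

/-- `etaApp` composed with the map given by a cocycle. -/
lemma etaApp_fs {V : D} {I : CochainComplex A₁ ℤ} (z : P₁.obj (fn.obj V) ⟶ I.X 0) (hz : z ≫ I.d 0 1 = 0) :
    etaApp uq u V ≫ RF.map ((sq (P₁.obj (fn.obj V))).hom ≫ Q.map (fs z hz)) =
      (sq (P₂.obj V)).hom ≫ Q.map (fsF F (u V ≫ F.map z) (cocycle u hz)) ≫ uq.app I := by
  have h3 := uq.naturality (fs z hz)
  dsimp only [Functor.comp_map] at h3
  rw [etaApp, ← ush_fs u z hz, Q.map_comp, Category.assoc, Category.assoc, Category.assoc, ← RF.map_comp,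
    Iso.inv_hom_id_assoc, Category.assoc, h3]

/-- The comparison data for a derived functor computed with K-injective complexes. -/
noncomputable def mk' (hP₂ : TestSystem K P₂)
    (hI : ∀ X : CochainComplex A₁ ℤ, ∃ (I : CochainComplex A₁ ℤ) (i : X ⟶ I), I.IsKInjective ∧ QuasiIso i)
    (huq : ∀ I : CochainComplex A₁ ℤ, I.IsKInjective → IsIso (uq.app I))
    (hu : ∀ {V W : D} (g : W ⟶ V), P₂.map g ≫ u V = u W ≫ F.map (P₁.map (fn.map g)))
    (hub : ∀ (V : D) (M : A₁), Function.Bijective (fun z : P₁.obj (fn.obj V) ⟶ M => u V ≫ F.map z)) :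
    LocComp K P₁ P₂ fn RF where
  η := { app := etaApp uq u, naturality := fun _ _ g => etaApp_nat uq u hu g }
  surj := by
    intro V X x
    obtain ⟨I, hIk, ⟨e⟩⟩ : ∃ I : CochainComplex A₁ ℤ, I.IsKInjective ∧ Nonempty (X ≅ Q.obj I) := by
      obtain ⟨I, i, h1, h2⟩ := hI (Q.objPreimage X)
      have := (DerivedCategory.isIso_Q_map_iff_quasiIso A₁ i).2 h2
      exact ⟨I, h1, ⟨(Q.objObjPreimageIso X).symm ≪≫ asIso (Q.map i)⟩⟩
    have := huq I hIk
    obtain ⟨T, hT, hl⟩ := loc_fs hP₂ ((sq (P₂.obj V)).inv ≫ x ≫ RF.map e.hom ≫ inv (uq.app I))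
    refine ⟨T, hT, fun {W} g hg => ?_⟩
    obtain ⟨z, hz, h⟩ := hl g hg
    obtain ⟨z₁, hz₁⟩ := (hub W (I.X 0)).2 z
    dsimp only at hz₁
    have hz₁' : z₁ ≫ I.d 0 1 = 0 := by
      apply (hub W (I.X 1)).1
      dsimp only
      rw [F.map_zero, comp_zero, F.map_comp, ← Category.assoc, hz₁]
      exact hz
    refine ⟨((sq (P₁.obj (fn.obj W))).hom ≫ Q.map (fs z₁ hz₁')) ≫ e.inv, ?_⟩
    change etaApp uq u W ≫ _ = _
    rw [RF.map_comp, ← Category.assoc, etaApp_fs]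
    have h' : Q.map (fsF F (u W ≫ F.map z₁) (cocycle u hz₁')) =
        Q.map ((CochainComplex.singleFunctor A₂ 0).map (P₂.map g)) ≫
          ((sq (P₂.obj V)).inv ≫ x ≫ RF.map e.hom ≫ inv (uq.app I)) := by
      rw [← h]
      congr 1
      exact fsF_congr _ hz₁ _
    have h5 := sq_hom_nat (P₂.map g)
    rw [h', Category.assoc, Category.assoc, Category.assoc, Category.assoc, Category.assoc, Category.assoc,
      IsIso.inv_hom_id_assoc, ← RF.map_comp, Iso.hom_inv_id, RF.map_id, Category.comp_id,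
      ← reassoc_of% h5, Iso.hom_inv_id_assoc]
  inj := by
    intro V X ξ hξ
    obtain ⟨I, hIk, ⟨e⟩⟩ : ∃ I : CochainComplex A₁ ℤ, I.IsKInjective ∧ Nonempty (X ≅ Q.obj I) := by
      obtain ⟨I, i, h1, h2⟩ := hI (Q.objPreimage X)
      have := (DerivedCategory.isIso_Q_map_iff_quasiIso A₁ i).2 h2
      exact ⟨I, h1, ⟨(Q.objObjPreimageIso X).symm ≪≫ asIso (Q.map i)⟩⟩
    have := huq I hIk
    obtain ⟨a, ha⟩ := Groth.Agent.CohtopA.DerProd.Q_map_surjective _ I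
      ((sq (P₁.obj (fn.obj V))).inv ≫ ξ ≫ e.hom)
    obtain ⟨z₁, hz₁, rfl⟩ := exists_fs a
    have hξ' : ξ = ((sq (P₁.obj (fn.obj V))).hom ≫ Q.map (fs z₁ hz₁)) ≫ e.inv := by
      rw [ha]
      simp
    have h0 : Q.map (fsF F (u V ≫ F.map z₁) (cocycle u hz₁)) = 0 := by
      change etaApp uq u V ≫ _ = _ at hξ
      rw [hξ', RF.map_comp, ← Category.assoc, etaApp_fs] at hξ
      rw [← cancel_mono (uq.app I), ← cancel_epi (sq (P₂.obj V)).hom, ← cancel_mono (RF.map e.inv)]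
      rw [hξ, zero_comp, comp_zero, zero_comp]
    obtain ⟨T, hT, hl⟩ := loc_boundary hP₂ _ _ h0
    refine ⟨T, hT, fun {W} g hg => ?_⟩
    obtain ⟨b, hb⟩ := hl g hg
    obtain ⟨b₁, hb₁⟩ := (hub W (I.X (-1))).2 b
    dsimp only at hb₁
    have hb₂ : b₁ ≫ I.d (-1) 0 = P₁.map (fn.map g) ≫ z₁ := by
      apply (hub W _).1
      dsimp only
      rw [F.map_comp, F.map_comp, ← Category.assoc, hb₁, ← Category.assoc, ← hu, Category.assoc]
      exact hb
    rw [hξ']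
    have h7 := sq_hom_nat (P₁.map (fn.map g))
    rw [← Category.assoc, ← Category.assoc, h7, Category.assoc (sq _).hom, ← Q.map_comp, map_fs,
      Q_map_fs_eq_zero _ _ b₁ hb₂, comp_zero, zero_comp]

end Construction

end K578.LComp
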