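import Groth.Agent.SiteCmp.K578.Leray
import Groth.Agent.SiteCmp.K578.LocComp
import Groth.Agent.SiteCmp.K578.AdjDev

/-!
# `Hom(P₁(fn V)[0], M[k]) = Hom(P₂(V)[0], RF M[k])` for single objects (Leray)
-/

set_option autoImplicit false
universe w₁ w₂ w₁' w₂' v₁ v₂ v₃ v₄ u₁ u₂ u₃ u₄

open CategoryTheory CategoryTheory.Limits CategoryTheory.Pretriangulated DerivedCategory

namespace K578.LerayInj

open Groth.Agent.CohtopB HomologicalComplex K578.FS K578.LComp K578.Leray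

variable {A₁ : Type u₁} [Category.{v₁} A₁] [Abelian A₁] [HasDerivedCategory.{w₁} A₁]
  {A₂ : Type u₂} [Category.{v₂} A₂] [Abelian A₂] [HasDerivedCategory.{w₂} A₂]
  {C : Type u₃} [Category.{v₃} C] {D : Type u₄} [Category.{v₄} D]
  {P₁ : C ⥤ A₁} {P₂ : D ⥤ A₂} {fn : D ⥤ C}
  {RF : DerivedCategory A₁ ⥤ DerivedCategory A₂} {F : A₁ ⥤ A₂} [F.Additive]
  (uq : F.mapHomologicalComplex (ComplexShape.up ℤ) ⋙ Q ⟶ Q ⋙ RF)
  (u : ∀ V : D, P₂.obj V ⟶ F.obj (P₁.obj (fn.obj V)))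

omit [HasDerivedCategory.{w₁} A₁] in
lemma isKInjective_sg (I : A₁) [Injective I] : (sg I).IsKInjective := by
  have : ∀ n, Injective ((sg I).X n) := by
    intro n
    by_cases hn : n = 0
    · subst hn
      exact Injective.of_iso (sx I).symm inferInstance
    · exact (isZero_single_obj_X (ComplexShape.up ℤ) 0 I n hn).injective
  exact CochainComplex.isKInjective_of_injective _ 0

/-- `F(I[0]) = F(I)[0]`. -/
noncomputable def Fsg (M : A₁) :
    (F.mapHomologicalComplex (ComplexShape.up ℤ)).obj (sg M) ≅ sg (F.obj M) :=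
  (singleMapHomologicalComplex F (ComplexShape.up ℤ) 0).app M

variable (huq : ∀ I : CochainComplex A₁ ℤ, I.IsKInjective → IsIso (uq.app I))
  (hub : ∀ (V : D) (M : A₁), Function.Bijective (fun z : P₁.obj (fn.obj V) ⟶ M => u V ≫ F.map z))

/-- `RF(I[0]) = F(I)[0]` for `I` injective. -/
noncomputable def RFsingle (I : A₁) [Injective I] (h : IsIso (uq.app (sg I))) :
    RF.obj ((singleFunctor A₁ 0).obj I) ≅ (singleFunctor A₂ 0).obj (F.obj I) :=
  RF.mapIso (sq I) ≪≫ (asIso (uq.app (sg I))).symm ≪≫ Q.mapIso (Fsg I) ≪≫ (sq (F.obj I)).symm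

include huq hub

/-- The case `k = 0`, injectivity. -/
lemma inj_zero (V : D) (I : A₁) [Injective I] :
    Inj RF (etaApp uq u V) ((singleFunctor A₁ 0).obj I) := by
  have := isKInjective_sg I
  have := huq (sg I) this
  refine Inj.of_iso RF _ (sq I).symm ?_
  intro ξ hξ
  obtain ⟨a, ha⟩ := Groth.Agent.CohtopA.DerProd.Q_map_surjective _ (sg I) ((sq (P₁.obj (fn.obj V))).inv ≫ ξ)
  obtain ⟨z₁, hz₁, rfl⟩ := exists_fs a
  have hξ' : ξ = (sq (P₁.obj (fn.obj V))).hom ≫ Q.map (fs z₁ hz₁) := by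
    rw [ha]
    simp
  have h0 : Q.map (fsF F (u V ≫ F.map z₁) (cocycle u hz₁)) = 0 := by
    rw [hξ', etaApp_fs] at hξ
    rw [← cancel_mono (uq.app (sg I)), ← cancel_epi (sq (P₂.obj V)).hom, hξ, zero_comp, comp_zero]
  obtain ⟨g, hg⟩ := (CochainComplex.singleFunctor A₂ 0).map_surjective
    (fsF F (u V ≫ F.map z₁) (cocycle u hz₁) ≫ (Fsg (F := F) I).hom)
  have hg0 : g = 0 := by
    apply (singleFunctor A₂ 0).map_injective
    rw [← cancel_mono (sq (F.obj I)).hom, sq_hom_nat, hg, Q.map_comp, h0]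
    simp
  have h1 : fsF F (u V ≫ F.map z₁) (cocycle u hz₁) = 0 := by
    rw [← cancel_mono (Fsg (F := F) I).hom, ← hg, hg0, Functor.map_zero, zero_comp]
  have h2 : (sx (P₂.obj V)).hom ≫ (u V ≫ F.map z₁) = 0 := by
    have h3 : (fsF F (u V ≫ F.map z₁) (cocycle u hz₁)).f 0 = 0 := by
      rw [h1]
      rfl
    exact (fs_f (Z := (F.mapHomologicalComplex (ComplexShape.up ℤ)).obj (sg I)) _ _).symm.trans h3
  have h3 : u V ≫ F.map z₁ = 0 := by
    rw [← cancel_epi (sx (P₂.obj V)).hom, h2, comp_zero]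
  have h4 : z₁ = 0 := by
    apply (hub V _).1
    dsimp only
    rw [h3, F.map_zero, comp_zero]
  subst h4
  rw [hξ']
  have : fs (0 : P₁.obj (fn.obj V) ⟶ (sg I).X 0) hz₁ = 0 := by
    apply FS.hom_ext
    rw [fs_f, comp_zero]
    rfl
  rw [this, Functor.map_zero, comp_zero]

/-- The case `k = 0`, surjectivity. -/
lemma srj_zero (V : D) (I : A₁) [Injective I] :
    Srj RF (etaApp uq u V) ((singleFunctor A₁ 0).obj I) := by
  have := isKInjective_sg I
  have := huq (sg I) this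
  refine Srj.of_iso RF _ (sq I).symm ?_
  intro x
  obtain ⟨g, hg⟩ := (singleFunctor A₂ 0).map_surjective
    (x ≫ inv (uq.app (sg I)) ≫ Q.map (Fsg (F := F) I).hom ≫ (sq (F.obj I)).inv)
  obtain ⟨z, hz, h⟩ := exists_fs ((CochainComplex.singleFunctor A₂ 0).map g ≫ (Fsg (F := F) I).inv)
  obtain ⟨z₁, hz₁⟩ := (hub V ((sg I).X 0)).2 z
  dsimp only at hz₁
  have hz₁' : z₁ ≫ (sg I).d 0 1 = 0 := by rw [sg_d, comp_zero]
  refine ⟨(sq (P₁.obj (fn.obj V))).hom ≫ Q.map (fs z₁ hz₁'), ?_⟩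
  rw [etaApp_fs]
  have h1 : fsF F (u V ≫ F.map z₁) (cocycle u hz₁') =
      (CochainComplex.singleFunctor A₂ 0).map g ≫ (Fsg (F := F) I).inv := by
    rw [h]
    exact fsF_congr _ hz₁ _
  rw [h1, Q.map_comp, ← Category.assoc, ← Category.assoc, ← sq_hom_nat, hg]
  simp only [Category.assoc]
  rw [Iso.inv_hom_id_assoc, ← Q.map_comp_assoc, Iso.hom_inv_id, Q.map_id, Category.id_comp,
    IsIso.inv_hom_id, Category.comp_id]

variable [RF.CommShift ℤ] [RF.IsTriangulated] [EnoughInjectives A₁]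
  [HasExt.{w₁'} A₁] [HasExt.{w₂'} A₂]

/-- Leray: the comparison is bijective on all `M[k]`. -/
theorem inj_and_srj (hLTE : K578.AdjDev.LTE RF) (V : D)
    (hacyc : ∀ (I : A₁) [Injective I] (n : ℕ), Subsingleton (Abelian.Ext.{w₂'} (P₂.obj V) (F.obj I) (n + 1)))
    (M : A₁) (k : ℤ) :
    Inj RF (etaApp uq u V) (((singleFunctor A₁ 0).obj M)⟦k⟧) ∧
      Srj RF (etaApp uq u V) (((singleFunctor A₁ 0).obj M)⟦k⟧) := by
  refine Leray.inj_and_srj RF _ (fun M k hk => ⟨?_, ?_⟩) (fun I _ k hk => ?_) M k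
  · intro ξ _
    exact DTrunc.hom_eq_zero_of_isGE _ _ 0 k hk ξ
  · intro x
    refine ⟨0, ?_⟩
    have h1 : (((singleFunctor A₁ 0).obj M)⟦k⟧).IsGE (-k) :=
      TStructure.t.isGE_shift ((singleFunctor A₁ 0).obj M) 0 k (-k) (by lia)
    have h2 := hLTE _ (-k) h1
    have h3 : x = 0 := TStructure.t.zero_of_isLE_of_isGE x 0 (-k) (by lia) inferInstance h2
    rw [h3, RF.map_zero, comp_zero]
  · rcases hk.eq_or_lt with rfl | hk
    · have e : (singleFunctor A₁ 0).obj I ≅ ((singleFunctor A₁ 0).obj I)⟦(0 : ℤ)⟧ :=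
        ((shiftFunctorZero (DerivedCategory A₁) ℤ).app _).symm
      exact ⟨Inj.of_iso RF _ e (inj_zero uq u huq hub V I), Srj.of_iso RF _ e (srj_zero uq u huq hub V I)⟩
    · obtain ⟨n, rfl⟩ : ∃ n : ℕ, k = (n + 1 : ℕ) := ⟨(k - 1).toNat, by omega⟩
      constructor
      · intro ξ _
        exact DTrunc.single_hom_eq_zero (P₁.obj (fn.obj V)) I 0 _ (n + 1) (by simp)
          (Subsingleton.intro fun a b => (Abelian.Ext.eq_zero_of_injective a).trans
            (Abelian.Ext.eq_zero_of_injective b).symm) ξ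
      · intro x
        refine ⟨0, ?_⟩
        have := huq (sg I) (isKInjective_sg I)
        let e : RF.obj (((singleFunctor A₁ 0).obj I)⟦((n + 1 : ℕ) : ℤ)⟧) ≅
            ((singleFunctor A₂ 0).obj (F.obj I))⟦((n + 1 : ℕ) : ℤ)⟧ :=
          (RF.commShiftIso _).app _ ≪≫ (shiftFunctor _ _).mapIso (RFsingle uq I this)
        have h3 : x = 0 := by
          rw [← cancel_mono e.hom, zero_comp]
          exact DTrunc.single_hom_eq_zero (P₂.obj V) (F.obj I) 0 _ (n + 1) (by simp) (hacyc I n) _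
        rw [h3, RF.map_zero, comp_zero]

end K578.LerayInj
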