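import Groth.Agent.SiteCmp.K578.FromSingle
import Groth.Agent.CohtopB.TestSys

/-!
# Maps from `P_V[0]` in the derived category are locally given by cocycles
-/

set_option autoImplicit false
universe w v u w' v' u'

open CategoryTheory CategoryTheory.Limits CategoryTheory.Pretriangulated DerivedCategory

namespace K578.LocSingle

open Groth.Agent.CohtopB Groth.Agent.CohtopB.TestSys HomologicalComplex K578.FS

section Epi

variable {A : Type u} [Category.{v} A] [Abelian A]

/-- For a quasi-isomorphism `s : X' ⟶ X[0]`, cocycles of degree `0` surject onto `X`. -/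
lemma epi_cycles_of_quasiIso {X : A} {X' : CochainComplex A ℤ} (s : X' ⟶ sg X) [QuasiIso s] :
    Epi (X'.iCycles 0 ≫ s.f 0 ≫ (sx X).hom) := by
  have h1 : IsIso ((sg X).iCycles 0) := (sg X).isIso_iCycles 0 1 (by simp) (sg_d _ _ _)
  have h2 : IsIso ((sg X).homologyπ 0) := (sg X).isIso_homologyπ (-1) 0 (by simp) (sg_d _ _ _)
  have h3 : Epi (cyclesMap s 0 ≫ (sg X).homologyπ 0) := by
    rw [← homologyπ_naturality]
    infer_instance
  have h4 : Epi (cyclesMap s 0) := by
    have : cyclesMap s 0 = (cyclesMap s 0 ≫ (sg X).homologyπ 0) ≫ inv ((sg X).homologyπ 0) := by simp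
    rw [this]
    infer_instance
  rw [← Category.assoc, ← cyclesMap_i, Category.assoc]
  infer_instance

end Epi

variable {A : Type u'} [Category.{v'} A] [Abelian A] {C : Type u} [Category.{v} C]
  {J : GrothendieckTopology C} {P : C ⥤ A} (hP : TestSystem J P)

include hP

/-- Locally, maps `P_V[0] ⟶ Q Z` in the derived category are given by cocycles. -/
lemma loc_fs [HasDerivedCategory.{w} A] {V : C} {Z : CochainComplex A ℤ}
    (y : Q.obj (sg (P.obj V)) ⟶ Q.obj Z) :
    ∃ T ∈ J V, ∀ {W : C} (g : W ⟶ V), T g → ∃ (z : P.obj W ⟶ Z.X 0) (hz : z ≫ Z.d 0 1 = 0),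
      Q.map (fs z hz) = Q.map ((CochainComplex.singleFunctor A 0).map (P.map g)) ≫ y := by
  obtain ⟨X', s, hs, g, rfl⟩ := DerivedCategory.right_fac y
  have : QuasiIso s := (DerivedCategory.isIso_Q_map_iff_quasiIso A s).1 hs
  have hepi := epi_cycles_of_quasiIso s
  obtain ⟨T, hT, hl⟩ := lift' hP (X'.iCycles 0 ≫ s.f 0 ≫ (sx _).hom) (𝟙 _)
  refine ⟨T, hT, fun {W} k hk => ?_⟩
  obtain ⟨c, hc⟩ := hl k hk
  have hz : (c ≫ X'.iCycles 0) ≫ X'.d 0 1 = 0 := by
    rw [Category.assoc, iCycles_d, comp_zero]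
  refine ⟨(c ≫ X'.iCycles 0) ≫ g.f 0, ?_, ?_⟩
  · rw [Category.assoc, g.comm, ← Category.assoc, hz, zero_comp]
  · rw [← fs_comp _ hz, Q.map_comp, ← Category.assoc]
    congr 1
    rw [← cancel_mono (Q.map s), Category.assoc, IsIso.inv_hom_id, Category.comp_id, ← Q.map_comp]
    congr 1
    apply FS.hom_ext
    rw [fs_comp, fs_f, sg_map_f]
    congr 1
    rw [Category.comp_id] at hc
    rw [← hc]
    simp

/-- If a cocycle gives the zero map in the derived category, it is locally a boundary. -/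
lemma loc_boundary [HasDerivedCategory.{w} A] {V : C} {Z : CochainComplex A ℤ}
    (z : P.obj V ⟶ Z.X 0) (hz : z ≫ Z.d 0 1 = 0) (h : Q.map (fs z hz) = 0) :
    ∃ T ∈ J V, ∀ {W : C} (g : W ⟶ V), T g →
      ∃ b : P.obj W ⟶ Z.X (-1), b ≫ Z.d (-1) 0 = P.map g ≫ z := by
  have h0 : homologyMap (fs z hz) 0 = 0 := by
    have h1 := Can.qh_naturality (fs z hz) 0
    rw [h, Functor.map_zero, zero_comp] at h1
    exact (cancel_epi (Can.qh _ 0).hom).1 (h1.symm.trans comp_zero.symm)
  have h2 : IsIso ((sg (P.obj V)).iCycles 0) := (sg (P.obj V)).isIso_iCycles 0 1 (by simp) (sg_d _ _ _)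
  have h3 : cyclesMap (fs z hz) 0 ≫ Z.homologyπ 0 = 0 := by
    rw [← homologyπ_naturality, h0, comp_zero]
  let c : P.obj V ⟶ Z.cycles 0 := (sx _).inv ≫ inv ((sg (P.obj V)).iCycles 0) ≫ cyclesMap (fs z hz) 0
  have hc : c ≫ Z.iCycles 0 = z := by
    simp only [c, Category.assoc, cyclesMap_i, IsIso.inv_hom_id_assoc]
    rw [fs_f, Iso.inv_hom_id_assoc]
  have hc0 : c ≫ Z.homologyπ 0 = 0 := by
    simp only [c, Category.assoc, h3, comp_zero]
  let S : ShortComplex A := ShortComplex.mk (Z.toCycles (-1) 0) (Z.homologyπ 0) (by simp)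
  have hS : S.Exact := ShortComplex.exact_of_g_is_cokernel _ (Z.homologyIsCokernel (-1) 0 (by simp))
  have hepi : Epi (kernel.lift S.g S.f S.zero) := hS.epi_kernelLift
  obtain ⟨T, hT, hl⟩ := lift' hP (kernel.lift S.g S.f S.zero) (kernel.lift S.g c hc0)
  refine ⟨T, hT, fun {W} k hk => ?_⟩
  obtain ⟨b, hb⟩ := hl k hk
  refine ⟨b, ?_⟩
  have h5 := hb =≫ kernel.ι S.g
  rw [Category.assoc, Category.assoc, kernel.lift_ι, kernel.lift_ι] at h5
  have h6 := h5 =≫ Z.iCycles 0
  simp only [S, Category.assoc, toCycles_i, hc] at h6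
  exact h6

end K578.LocSingle
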