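import Groth.Prelude.Def_WeakSerre
import Groth.Agent.Dcoh.DerComp2
import Groth.Agent.Dcoh.MapDer
import Mathlib.CategoryTheory.Abelian.SerreClass.Basic

/-!
# `D(P) ≃ D_P(A)` for a Serre class `P` "of torsion objects": underived part
-/

set_option autoImplicit false
universe w w' v u

open CategoryTheory CategoryTheory.Limits Opposite

namespace K578.TorsAbs

section Basic

variable {A : Type u} [Category.{v} A] [Abelian A] (P : ObjectProperty A) [P.IsSerreClass]
  {R : A ⥤ P.FullSubcategory} (adj : P.ι ⊣ R)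

omit [P.IsSerreClass] [Abelian A] in
lemma exists_fac (X Y : A) (hY : P Y) (g : Y ⟶ X) :
    ∃ g' : Y ⟶ P.ι.obj (R.obj X), g' ≫ adj.counit.app X = g := by
  let Y' : P.FullSubcategory := ⟨Y, hY⟩
  refine ⟨P.ι.map (adj.homEquiv Y' X g), ?_⟩
  exact (adj.homEquiv_counit (X := Y') (Y := X) (g := adj.homEquiv Y' X g)).symm.trans
    ((adj.homEquiv Y' X).symm_apply_apply g)

omit [P.IsSerreClass] in
lemma eq_zero_of_comp {X Y : A} (hY : P Y) (g : Y ⟶ P.ι.obj (R.obj X)) (h : g ≫ adj.counit.app X = 0) :
    g = 0 := by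
  let Y' : P.FullSubcategory := ⟨Y, hY⟩
  obtain ⟨g', rfl⟩ : ∃ g' : Y' ⟶ R.obj X, P.ι.map g' = g := P.ι.map_surjective (X := Y') g
  obtain ⟨z, hz⟩ : ∃ z : Y' ⟶ R.obj X, P.ι.map z = (0 : P.ι.obj Y' ⟶ P.ι.obj (R.obj X)) :=
    P.ι.map_surjective (X := Y') 0
  have h1 : g' = z := by
    apply (adj.homEquiv Y' X).symm.injective
    rw [adj.homEquiv_counit, adj.homEquiv_counit, h, hz, zero_comp]
  rw [h1, hz]

lemma mono_counit (X : A) : Mono (adj.counit.app X) := by
  apply Preadditive.mono_of_kernel_zero
  have hK : P (kernel (adj.counit.app X)) := P.prop_of_mono (kernel.ι (adj.counit.app X)) (R.obj X).property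
  exact eq_zero_of_comp P adj hK (kernel.ι (adj.counit.app X)) (kernel.condition _)

/-- The quotient by the largest subobject in `P` has no `n`-torsion. -/
lemma mono_nsmul_cokernel (n : ℕ) (h1 : ∀ K : A, n • 𝟙 K = 0 → P K) (X : A) :
    Mono (n • 𝟙 (cokernel (adj.counit.app X))) := by
  have := mono_counit P adj X
  let c := adj.counit.app X
  let π := cokernel.π c
  let k := kernel.ι (n • 𝟙 (cokernel c))
  have hk : k ≫ (n • 𝟙 (cokernel c)) = 0 := kernel.condition _
  have hK : P (kernel (n • 𝟙 (cokernel c))) := by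
    apply h1
    rw [← cancel_mono k, zero_comp]
    rw [Preadditive.comp_nsmul, Category.comp_id] at hk
    rw [Preadditive.nsmul_comp, Category.id_comp, hk]
  -- the preimage of `K` in `X`
  have hker : P (kernel (pullback.snd π k)) := by
    let j : kernel (pullback.snd π k) ⟶ kernel π :=
      kernel.lift π (kernel.ι (pullback.snd π k) ≫ pullback.fst π k) (by
        rw [Category.assoc, pullback.condition, kernel.condition_assoc, zero_comp])
    have hj : Mono j := by
      have : Mono (j ≫ kernel.ι π) := by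
        apply Preadditive.mono_of_cancel_zero
        intro Z g hg
        rw [kernel.lift_ι, ← Category.assoc] at hg
        rw [← cancel_mono (kernel.ι (pullback.snd π k)), zero_comp]
        apply pullback.hom_ext
        · rw [hg, zero_comp]
        · rw [Category.assoc, kernel.condition, comp_zero, zero_comp]
      exact mono_of_mono j (kernel.ι π)
    have hP : P (kernel π) :=
      P.prop_of_epi (Abelian.factorThruImage c) (R.obj X).property
    exact P.prop_of_mono j hP
  have hE : P (pullback π k) := by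
    let S : ShortComplex A := ShortComplex.mk (kernel.ι (pullback.snd π k)) (pullback.snd π k) (kernel.condition _)
    have hS : S.Exact := ShortComplex.exact_of_f_is_kernel _ (kernelIsKernel _)
    exact P.prop_X₂_of_exact hS hker hK
  obtain ⟨g', hg'⟩ := exists_fac P adj X _ hE (pullback.fst π k)
  apply Preadditive.mono_of_kernel_zero
  change k = 0
  rw [← cancel_epi (pullback.snd π k), comp_zero, ← pullback.condition, ← hg', Category.assoc,
    cokernel.condition, comp_zero]

omit [P.IsSerreClass] in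
lemma epi_nsmul_cokernel (n : ℕ) (X : A) (hX : Epi (n • 𝟙 X)) :
    Epi (n • 𝟙 (cokernel (adj.counit.app X))) := by
  have h1 : cokernel.π (adj.counit.app X) ≫ (n • 𝟙 (cokernel (adj.counit.app X))) =
      (n • 𝟙 X) ≫ cokernel.π (adj.counit.app X) := by
    rw [Preadditive.comp_nsmul, Preadditive.nsmul_comp, Category.comp_id, Category.id_comp]
  have h2 : Epi (cokernel.π (adj.counit.app X) ≫ (n • 𝟙 (cokernel (adj.counit.app X)))) := by
    rw [h1]
    infer_instance
  exact epi_of_epi (cokernel.π (adj.counit.app X)) _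

omit [Abelian A] in
lemma isIso_nsmul_of_iso [Preadditive A] (n : ℕ) {X Y : A} (e : X ≅ Y) (h : IsIso (n • 𝟙 X)) : IsIso (n • 𝟙 Y) := by
  have : n • 𝟙 Y = e.inv ≫ (n • 𝟙 X) ≫ e.hom := by
    rw [Preadditive.nsmul_comp, Category.id_comp, Preadditive.comp_nsmul, Iso.inv_hom_id]
  rw [this]
  infer_instance

end Basic

section Complex

variable {A : Type u} [Category.{v} A] [Abelian A] (P : ObjectProperty A) [P.IsSerreClass]
  {R : A ⥤ P.FullSubcategory} [R.Additive] (adj : P.ι ⊣ R)

open HomologicalComplex Groth.Agent.Dcoh.DerAdj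

/-- The counit on complexes. -/
noncomputable abbrev cI (I : CochainComplex A ℤ) :
    (P.ι.mapHomologicalComplex (ComplexShape.up ℤ)).obj ((R.mapHomologicalComplex (ComplexShape.up ℤ)).obj I) ⟶ I :=
  (adjCx adj (ComplexShape.up ℤ)).counit.app I

theorem quasiIso_cI (I : CochainComplex A ℤ)
    (hI : ∀ i, P (I.homology i))
    (h1 : ∀ n : ℕ, n ≠ 0 → ∀ K : A, n • 𝟙 K = 0 → P K)
    (h2 : ∀ n : ℕ, n ≠ 0 → ∀ i, Epi (n • 𝟙 (I.X i)))
    (h3 : ∀ X : A, P X → (∀ n : ℕ, n ≠ 0 → Mono (n • 𝟙 X)) → IsZero X) : QuasiIso (cI P adj I) := by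
  have hm : ∀ i, Mono ((cI P adj I).f i) := fun i => mono_counit P adj (I.X i)
  have hm' : Mono (cI P adj I) := mono_of_mono_f _ hm
  let S : ShortComplex (CochainComplex A ℤ) :=
    ShortComplex.mk (cI P adj I) (cokernel.π (cI P adj I)) (cokernel.condition _)
  have hS : S.ShortExact :=
    { exact := ShortComplex.exact_of_g_is_cokernel _ (cokernelIsCokernel _)
      mono_f := hm'
      epi_g := inferInstanceAs (Epi (cokernel.π (cI P adj I))) }
  have hiso : ∀ n : ℕ, n ≠ 0 → IsIso (n • 𝟙 S.X₃) := by
    intro n hn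
    have : ∀ i, IsIso ((n • 𝟙 S.X₃ : S.X₃ ⟶ S.X₃).f i) := by
      intro i
      have h4 : IsIso (n • 𝟙 (S.X₃.X i)) := by
        have e : cokernel (adj.counit.app (I.X i)) ≅ S.X₃.X i :=
          (PreservesCokernel.iso (HomologicalComplex.eval A (ComplexShape.up ℤ) i) (cI P adj I)).symm
        refine isIso_nsmul_of_iso n e ?_
        have := mono_nsmul_cokernel P adj n (h1 n hn) (I.X i)
        have := epi_nsmul_cokernel P adj n (I.X i) (h2 n hn i)
        exact isIso_of_mono_of_epi _
      exact h4
    exact HomologicalComplex.Hom.isIso_of_components _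
  have hzero : ∀ i, IsZero (S.X₃.homology i) := by
    intro i
    have hP : P (S.X₃.homology i) := by
      have hex := hS.homology_exact₃ i (i + 1) rfl
      refine P.prop_X₂_of_exact hex (hI i) ?_
      exact P.prop_of_iso (((R.mapHomologicalComplex (ComplexShape.up ℤ)).obj I).sc (i + 1) |>.mapHomologyIso P.ι).symm
        (((R.mapHomologicalComplex (ComplexShape.up ℤ)).obj I).homology (i + 1)).property
    refine h3 _ hP fun n hn => ?_
    have := hiso n hn
    have h5 : (n • 𝟙 (S.X₃.homology i) : _ ⟶ _) = homologyMap (n • 𝟙 S.X₃) i := by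
      have := (HomologicalComplex.homologyFunctor A (ComplexShape.up ℤ) i).map_nsmul (n := n) (f := 𝟙 S.X₃)
      rw [CategoryTheory.Functor.map_id] at this
      exact this.symm
    rw [h5]
    infer_instance
  rw [quasiIso_iff]
  intro i
  rw [quasiIsoAt_iff_isIso_homologyMap]
  have e1 : Epi (homologyMap (cI P adj I) i) := by
    have := hS.homology_exact₂ i
    exact (ShortComplex.exact_iff_epi _ ((hzero i).eq_of_tgt _ _)).1 this
  have e2 : Mono (homologyMap (cI P adj I) i) := by
    have := hS.homology_exact₁ (i - 1) i (by simp)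
    exact (ShortComplex.exact_iff_mono _ ((hzero (i - 1)).eq_of_src _ _)).1 this
  exact isIso_of_mono_of_epi _

end Complex

end K578.TorsAbs
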